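import Cfsg.Agent.H678.DG.Basic
import Cfsg.Agent.H678.DG.Sph
import Cfsg.Agent.H707.RowTits

/-!
# Degree graph facts for the Tits group (helper678)

The permutation character on the 1755 points of the generalized octagon has constituents of degrees 78 and 650
(eigenvalues 64 and 16 of the relation of valency 1024).
-/

set_option autoImplicit false
set_option maxRecDepth 100000
set_option exponentiation.threshold 5000

namespace Cfsg.Agent.H678.DG.Tits

open Cfsg Cfsg.Agent.H707.RowTitsModel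
open Cfsg.Agent.SporadicB.RuData Cfsg.Agent.SporadicB.RuOrder Cfsg.Agent.SporadicB.RuTitsData
open Cfsg.Agent.SporadicB.RuTits
open Cfsg.Agent.Lib.BitNet Cfsg.Agent.Lib.BitNetSimple
open MulAction

/-- The sizes of the classes. -/
def kk : Fin 5 → ℕ := ![1, 10, 80, 640, 1024]

theorem cm_card : ∀ i, Nat.beq (popc 12 (cm i)) (kk i) = true := by decide +kernel

theorem cm_row : ∀ i, Nat.beq (Nat.land (cm i) (row 0)) (cm i) = true := by decide +kernel

theorem cm_lt : ∀ i, Nat.blt (cm i) (Nat.pow 2 4060) = true := by decide +kernel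

theorem card_cls (j : Fin 5) : (Finset.univ.filter fun y : X => cls y = j).card = kk j := by
  have h1 : (Finset.univ.filter fun y : X => cls y = j).card = (pts 4060 (cm j)).card := by
    rw [← Finset.card_map (Function.Embedding.subtype _)]
    congr 1
    ext y
    rw [Finset.mem_map, mem_pts]
    constructor
    · rintro ⟨z, hz, rfl⟩
      exact (cls_iff _ _).1 (Finset.mem_filter.1 hz).2
    · intro h
      have h2 : (row 0).testBit y = true := by
        have h3 := Nat.eq_of_beq_eq_true (cm_row j)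
        have h4 : Nat.land (cm j) (row 0) = cm j &&& row 0 := rfl
        rw [h4] at h3
        rw [← h3, Nat.testBit_and, Bool.and_eq_true] at h
        exact h.2
      exact ⟨⟨y, h2⟩, Finset.mem_filter.2 ⟨Finset.mem_univ _, (cls_iff _ _).2 h⟩, rfl⟩
  rw [h1]
  have h2 := Nat.eq_of_beq_eq_true (cm_card j)
  apply le_antisymm
  · rw [← h2]
    exact card_pts_le (by norm_num) _
  · rw [← h2]
    refine card_pts_eq fun k hk => ?_
    by_contra hlt
    have h3 := cm_lt j
    rw [Nat.blt_eq] at h3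
    have h4 : cm j < 2 ^ k := lt_of_lt_of_le h3 (Nat.pow_le_pow_right (by norm_num) (not_lt.1 hlt))
    rw [Nat.testBit_lt_two_pow h4] at hk
    exact Bool.noConfusion hk

theorem card_X : Fintype.card X = 1755 := by
  classical
  rw [← Finset.card_univ, Finset.card_eq_sum_card_fiberwise (f := cls) (t := Finset.univ)
    (fun _ _ => Finset.mem_univ _), Finset.sum_congr rfl fun j _ => card_cls j]
  decide +kernel

theorem trans : MulAction.IsPretransitive T X := by
  have key : ∀ x : X, ∃ g : T, g • r 0 = x := by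
    intro x
    have h2 : x.1 ∈ orbit T p1 := by
      rw [orbit_eq]
      exact x.2
    obtain ⟨g, hg⟩ := h2
    exact ⟨g, Subtype.ext hg⟩
  refine ⟨fun x y => ?_⟩
  obtain ⟨g, rfl⟩ := key x
  obtain ⟨h, rfl⟩ := key y
  exact ⟨h * g⁻¹, by rw [mul_smul, inv_smul_smul]⟩

/-- The degree for an eigenvalue. -/
theorem deg (a : Fin 5 → ℚ) (t : ℚ) (L : Fin 5 → Fin 5 → ℚ) (d : ℕ)
    (ha : a 0 = 1) (hBa : ∀ i, ∑ j, (B i j : ℚ) * a j = t * a i)
    (hL : ∀ i j, ∑ l, L i l * ((B l j : ℚ) - if l = j then t else 0) =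
      (if i = j then 1 else 0) - if j = 0 then a i else 0)
    (hd : (d : ℚ) * ∑ j, (kk j : ℚ) * (a j * a j) = (1755 : ℕ)) :
    ∃ χ : IrrCharacter T, charDegree (χ : T → ℂ) = d := by
  have := trans
  refine Sph.exists_of_graph_rat E E_smul (r 0) (MulAction.stabilizer T (r 0)) (fun _ h => h) cls r ?_ ?_ B count kk
    card_cls 0 (cls_r 0) a t L d 1755 card_X ha hBa hL hd
  · intro g hg x
    rw [cls_iff, smul_val]
    have h1 : g.1 p1 = p1 := congrArg Subtype.val hg
    rw [inv _ g.2 h1]
    exact cls_spec x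
  · intro x
    obtain ⟨k, hk⟩ := orb_i (cls x)
    obtain ⟨g, hg, hgx⟩ := exists_of_iterF (b := (r (cls x)).1) gensT1 hk (cls_spec x)
    exact ⟨⟨g, hg.1⟩, Subtype.ext hg.2, Subtype.ext hgx⟩

theorem deg_78 : ∃ χ : IrrCharacter T, charDegree (χ : T → ℂ) = 78 :=
  deg ![1, -1/2, 1/4, -1/8, 1/16] 64 ![![0, 0, 0, 0, 0], ![-1/128, -1/64, 1/40, 0, 0], ![1/256, 1/320, -1/32, 1/40, 0],
    ![-1/512, 0, 1/320, 0, 0], ![1/1024, 0, 0, 0, 0]] 78 (by decide +kernel) (by decide +kernel) (by decide +kernel)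
    (by decide +kernel)

theorem deg_650 : ∃ χ : IrrCharacter T, charDegree (χ : T → ℂ) = 650 :=
  deg ![1, 1/10, -1/8, -1/80, 1/64] 16 ![![0, 0, 0, 0, 0], ![1/160, -11/560, -1/14, 3/35, 0],
    ![-1/128, -1/112, 1/28, -1/56, 0], ![-1/1280, 3/2240, -1/448, 3/1120, 0], ![1/1024, 0, 0, 0, 0]] 650
    (by decide +kernel) (by decide +kernel) (by decide +kernel) (by decide +kernel)

/-- The degree graph of the Tits group. -/
theorem facts_tits {S : Type*} [Group S] (h : Lie.IsoTits S) : Facts S := by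
  obtain ⟨e⟩ := h
  obtain ⟨f⟩ := H707.RowTits.equiv
  have hc := Cfsg.Agent.SporadicB.RuTits.card_T
  have : Finite T := Nat.finite_of_card_ne_zero (by rw [hc]; norm_num)
  refine Facts.of_equiv (e.trans f) ?_
  refine Facts.of_list (P := [2, 3, 5, 13]) (D := [78, 650]) ?_ (by decide)
    (mem_of_card (f := fun _ => 11) ?_ ?_) ?_ (by decide +kernel)
  · intro p hp; fin_cases hp <;> norm_num
  · rw [hc]; decide +kernel
  · intro p hp; fin_cases hp <;> norm_num
  · intro m hm
    simp only [List.mem_cons, List.not_mem_nil, or_false] at hm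
    rcases hm with rfl | rfl
    · obtain ⟨χ, hχ⟩ := deg_78
      exact ⟨χ, by rw [hχ]⟩
    · obtain ⟨χ, hχ⟩ := deg_650
      exact ⟨χ, by rw [hχ]⟩

end Cfsg.Agent.H678.DG.Tits
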