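import Cfsg.Agent.H33.IM
import Cfsg.Agent.H424.DegTools
import Cfsg.Agent.H671.H5Facts

/-!
# The facts `Conn`, `Ind`, `Tri` on the degree graph from a list of degrees (helper678)

* `Facts S` : the degree graph of `S` is connected, among three vertices two are adjacent, and
  there is a triangle (the facts `FactConn`, `FactInd`, `FactTri` of `H671.H5Facts` for one group).
* `Facts.of_equiv` : transport.
* `Facts.of_list` : if `P` is a list of primes containing all prime divisors of degrees and `D` is a list of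
  numbers dividing degrees (`IM d S`) then the facts follow from the decidable check `ok P D`.
* `Dia S` : any two vertices are joined by a path of length at most three (for S4998; follows
  from `Facts`).
-/

set_option autoImplicit false

namespace Cfsg.Agent.H678.DG

open Cfsg Cfsg.Agent.H671.H5

universe u v

/-- The three facts on the character degree graph for one group. -/
structure Facts (S : Type u) [Group S] : Prop where
  conn : ((Cfsg.degreeGraph S).induce (Cfsg.degreePrimes S)).Connected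
  ind : ∀ p ∈ Cfsg.degreePrimes S, ∀ q ∈ Cfsg.degreePrimes S, ∀ r ∈ Cfsg.degreePrimes S,
    p ≠ q → q ≠ r → p ≠ r → Adj p q S ∨ Adj q r S ∨ Adj p r S
  tri : ∃ p q r : ℕ, Adj p q S ∧ Adj q r S ∧ Adj p r S

theorem Facts.of_equiv {S : Type u} [Group S] {T : Type v} [Group T] (e : S ≃* T) (h : Facts T) :
    Facts S := by
  have h1 : Cfsg.degreeGraph S = Cfsg.degreeGraph T := H424.DegTools.degreeGraph_congr e
  have h2 : Cfsg.degreePrimes S = Cfsg.degreePrimes T := H424.DegTools.degreePrimes_congr e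
  obtain ⟨hc, hi, ht⟩ := h
  refine ⟨?_, ?_, ?_⟩
  · rw [h1, h2]; exact hc
  · unfold H671.H5.Adj at *
    rw [h1, h2]; exact hi
  · unfold H671.H5.Adj at *
    rw [h1]; exact ht

section list

/-- The edge `p q` is visible in the list `D`. -/
def edge (D : List ℕ) (p q : ℕ) : Bool := D.any fun d => d % (p * q) == 0

/-- Every member but the last one is joined to a later one. -/
def conn (D : List ℕ) : List ℕ → Bool
  | [] => false
  | [_] => true
  | p :: q :: l => (q :: l).any (fun x => edge D p x) && conn D (q :: l)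

/-- Among three distinct members two are joined. -/
def chkInd (P D : List ℕ) : Bool :=
  P.all fun p => P.all fun q => P.all fun r =>
    p == q || q == r || p == r || edge D p q || edge D q r || edge D p r

/-- Three distinct members which are pairwise joined. -/
def chkTri (P D : List ℕ) : Bool :=
  P.any fun p => P.any fun q => P.any fun r =>
    p != q && q != r && p != r && edge D p q && edge D q r && edge D p r

/-- The check. -/
def ok (P D : List ℕ) : Bool :=
  P.all (fun p => D.any fun d => d % p == 0) && conn D P && chkInd P D && chkTri P D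

variable {S : Type u} [Group S] {P D : List ℕ}

theorem adj_of_edge (hp : ∀ p ∈ P, p.Prime) (hD : ∀ d ∈ D, IM d S) {p q : ℕ} (h1 : p ∈ P)
    (h2 : q ∈ P) (hne : p ≠ q) (h : edge D p q = true) : Adj p q S := by
  unfold edge at h
  rw [List.any_eq_true] at h
  obtain ⟨d, hd, h3⟩ := h
  obtain ⟨χ, hχ⟩ := hD d hd
  refine adj_iff.2 ⟨hne, hp p h1, hp q h2, χ, dvd_trans ?_ hχ⟩
  exact Nat.dvd_of_mod_eq_zero (by simpa using h3)

theorem reach_of_conn (hp : ∀ p ∈ P, p.Prime) (hD : ∀ d ∈ D, IM d S)
    (hmem : ∀ p ∈ P, p ∈ Cfsg.degreePrimes S) :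
    ∀ l : List ℕ, (∀ p ∈ l, p ∈ P) → l.Nodup → conn D l = true →
      ∃ z ∈ l, ∀ x ∈ l, ∀ (hx : x ∈ Cfsg.degreePrimes S) (hz : z ∈ Cfsg.degreePrimes S),
        ((Cfsg.degreeGraph S).induce (Cfsg.degreePrimes S)).Reachable ⟨x, hx⟩ ⟨z, hz⟩
  | [], _, _, h => by simp [conn] at h
  | [p], _, _, _ => ⟨p, by simp, fun x hx _ _ => by
      have : x = p := by simpa using hx
      subst this
      exact SimpleGraph.Reachable.refl _⟩
  | p :: q :: l, hl, hnd, h => by
    have h' : (q :: l).any (fun x => edge D p x) = true ∧ conn D (q :: l) = true := by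
      simpa [conn] using h
    obtain ⟨h1, h2⟩ := h'
    rw [List.any_eq_true] at h1
    obtain ⟨y, hy, hpy⟩ := h1
    obtain ⟨z, hz, hall⟩ := reach_of_conn hp hD hmem (q :: l)
      (fun x hx => hl x (List.mem_cons_of_mem _ hx)) (List.nodup_cons.1 hnd).2 h2
    refine ⟨z, List.mem_cons_of_mem _ hz, fun x hx hxm hzm => ?_⟩
    rcases List.mem_cons.1 hx with rfl | hx
    · have hne : x ≠ y := fun h => (List.nodup_cons.1 hnd).1 (h ▸ hy)
      have hyP : y ∈ P := hl y (List.mem_cons_of_mem _ hy)
      have hadj : Adj x y S := adj_of_edge hp hD (hl x (by simp)) hyP hne hpy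
      have hadj' : ((Cfsg.degreeGraph S).induce (Cfsg.degreePrimes S)).Adj ⟨x, hxm⟩
          ⟨y, hmem y hyP⟩ := hadj
      exact hadj'.reachable.trans (hall y hy (hmem y hyP) hzm)
    · exact hall x hx hxm hzm

/-- **The facts from a list of divisors of degrees.** -/
theorem Facts.of_list (hp : ∀ p ∈ P, p.Prime) (hnd : P.Nodup)
    (hP : ∀ p ∈ Cfsg.degreePrimes S, p ∈ P) (hD : ∀ d ∈ D, IM d S) (hok : ok P D = true) :
    Facts S := by
  unfold ok at hok
  simp only [Bool.and_eq_true] at hok
  obtain ⟨⟨⟨h1, h2⟩, h3⟩, h4⟩ := hok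
  have hmem : ∀ p ∈ P, p ∈ Cfsg.degreePrimes S := by
    intro p hpP
    rw [List.all_eq_true] at h1
    have h5 := h1 p hpP
    rw [List.any_eq_true] at h5
    obtain ⟨d, hd, h6⟩ := h5
    obtain ⟨χ, hχ⟩ := hD d hd
    exact mem_degreePrimes.2 ⟨hp p hpP, χ, dvd_trans (Nat.dvd_of_mod_eq_zero (by simpa using h6)) hχ⟩
  refine ⟨?_, ?_, ?_⟩
  · obtain ⟨z, hz, hall⟩ := reach_of_conn hp hD hmem P (fun _ h => h) hnd h2
    have hzm := hmem z hz
    have : Nonempty ↥(Cfsg.degreePrimes S) := ⟨⟨z, hzm⟩⟩
    refine ⟨fun x y => ?_⟩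
    have hx := hall x.1 (hP x.1 x.2) x.2 hzm
    have hy := hall y.1 (hP y.1 y.2) y.2 hzm
    exact hx.trans hy.symm
  · intro p hpm q hqm r hrm hpq hqr hpr
    unfold chkInd at h3
    rw [List.all_eq_true] at h3
    have h5 := h3 p (hP p hpm)
    rw [List.all_eq_true] at h5
    have h6 := h5 q (hP q hqm)
    rw [List.all_eq_true] at h6
    have h7 := h6 r (hP r hrm)
    simp only [Bool.or_eq_true, beq_iff_eq] at h7
    rcases h7 with ((((h | h) | h) | h) | h) | h
    · exact absurd h hpq
    · exact absurd h hqr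
    · exact absurd h hpr
    · exact Or.inl (adj_of_edge hp hD (hP p hpm) (hP q hqm) hpq h)
    · exact Or.inr (Or.inl (adj_of_edge hp hD (hP q hqm) (hP r hrm) hqr h))
    · exact Or.inr (Or.inr (adj_of_edge hp hD (hP p hpm) (hP r hrm) hpr h))
  · unfold chkTri at h4
    rw [List.any_eq_true] at h4
    obtain ⟨p, hpP, h5⟩ := h4
    rw [List.any_eq_true] at h5
    obtain ⟨q, hqP, h6⟩ := h5
    rw [List.any_eq_true] at h6
    obtain ⟨r, hrP, h7⟩ := h6
    simp only [Bool.and_eq_true, bne_iff_ne] at h7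
    obtain ⟨⟨⟨⟨⟨e1, e2⟩, e3⟩, e4⟩, e5⟩, e6⟩ := h7
    exact ⟨p, q, r, adj_of_edge hp hD hpP hqP e1 e4, adj_of_edge hp hD hqP hrP e2 e5,
      adj_of_edge hp hD hpP hrP e3 e6⟩

/-- The primes of the degree graph from a factorisation of the order. -/
theorem mem_of_card [Finite S] {f : ℕ → ℕ} (hc : Nat.card S ∣ (P.map fun p => p ^ f p).prod) (hp : ∀ p ∈ P, p.Prime) :
    ∀ p ∈ Cfsg.degreePrimes S, p ∈ P := by
  intro p hpm
  obtain ⟨hpp, χ, hχ⟩ := mem_degreePrimes.1 hpm
  have h1 : p ∣ (P.map fun p => p ^ f p).prod :=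
    (dvd_trans (dvd_trans hχ (Cfsg.Agent.Blocks.Knorr.charDegree_dvd χ.2)) hc)
  rw [Prime.dvd_prod_iff hpp.prime] at h1
  obtain ⟨a, ha, hpa⟩ := h1
  rw [List.mem_map] at ha
  obtain ⟨q, hq, rfl⟩ := ha
  have h2 : p ∣ q := hpp.dvd_of_dvd_pow hpa
  rw [Nat.prime_dvd_prime_iff_eq hpp (hp q hq)] at h2
  rw [h2]
  exact hq

end list

/-- Any two vertices are joined by a path of length at most three. -/
theorem Facts.dia {S : Type u} [Group S] (h : Facts S) (u v : ↥(Cfsg.degreePrimes S)) :
    ∃ w : ((Cfsg.degreeGraph S).induce (Cfsg.degreePrimes S)).Walk u v, w.length ≤ 3 := by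
  classical
  let Γ := (Cfsg.degreeGraph S).induce (Cfsg.degreePrimes S)
  obtain ⟨w, hw⟩ := h.conn.exists_walk_length_eq_dist u v
  refine ⟨w, ?_⟩
  by_contra hcon
  have hcon' : 4 ≤ w.length := by omega
  have hd : ∀ i j, i ≤ j → j ≤ w.length → ∀ q : Γ.Walk (w.getVert i) (w.getVert j),
      j - i ≤ q.length := by
    intro i j hij hj q
    have h1 := SimpleGraph.dist_le (((w.take i).append q).append (w.drop j))
    rw [SimpleGraph.Walk.length_append, SimpleGraph.Walk.length_append, ← hw,
      SimpleGraph.Walk.take_length, SimpleGraph.Walk.drop_length, min_eq_left (hij.trans hj)] at h1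
    omega
  have hne : ∀ i j, i < j → j ≤ w.length → w.getVert i ≠ w.getVert j := by
    intro i j hij hj he
    have h1 := hd i j hij.le hj (SimpleGraph.Walk.nil.copy rfl he)
    rw [SimpleGraph.Walk.length_copy, SimpleGraph.Walk.length_nil] at h1
    omega
  have hna : ∀ i j, i + 1 < j → j ≤ w.length → ¬ Γ.Adj (w.getVert i) (w.getVert j) := by
    intro i j hij hj he
    have h1 := hd i j (by omega) hj he.toWalk
    rw [SimpleGraph.Adj.length_toWalk] at h1
    omega
  rcases h.ind _ (w.getVert 0).2 _ (w.getVert 2).2 _ (w.getVert 4).2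
    (fun h => hne 0 2 (by omega) (by omega) (Subtype.ext h))
    (fun h => hne 2 4 (by omega) (by omega) (Subtype.ext h))
    (fun h => hne 0 4 (by omega) (by omega) (Subtype.ext h)) with h1 | h1 | h1
  · exact hna 0 2 (by omega) (by omega) h1
  · exact hna 2 4 (by omega) (by omega) h1
  · exact hna 0 4 (by omega) (by omega) h1

end Cfsg.Agent.H678.DG
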