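import Cfsg.Agent.H678.DG.Pts

/-!
# Degrees from the action on the pairs of a graph (helper678)

`G` is a group of permutations of `Fin N` preserving the relation `R`; `ea k`, `eb k` (`k < M`) are the end points of the
`k`-th pair of `R` and `ix i j` is the number of the pair `{i, j}`. `deg_of_pairs` : the degree of a constituent of the
permutation character of `G` on the pairs.
-/

set_option autoImplicit false

namespace Cfsg.Agent.H678.DG.PairRep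

open Cfsg Equiv Cfsg.Agent.SporadicA.PermTab Cfsg.Agent.H678.DG.Blk Cfsg.Agent.H678.DG.Pts

/-- The pairs are in `R` and `ix` is their number. -/
def chkY (N M : ℕ) (R : ℕ → ℕ → Bool) (ea eb : ℕ → ℕ) (ix : ℕ → ℕ → ℕ) : Bool :=
  allB (fun k => forceB (ea k) fun a => forceB (eb k) fun b => band (Nat.blt a N) (band (Nat.blt b N) (band (R a b)
    (band (Nat.beq (ix a b) k) (Nat.beq (ix b a) k))))) M

/-- Every pair in `R` has a number. -/
def chkIx (N M : ℕ) (R : ℕ → ℕ → Bool) (ea eb : ℕ → ℕ) (ix : ℕ → ℕ → ℕ) : Bool :=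
  allB (fun i => allB (fun j => cond (R i j) (forceB (ix i j) fun k => band (Nat.blt k M)
    (bor (band (Nat.beq (ea k) i) (Nat.beq (eb k) j)) (band (Nat.beq (ea k) j) (Nat.beq (eb k) i)))) true) N) N

/-- The data of the pairs. -/
structure Data (N M : ℕ) (R : ℕ → ℕ → Bool) (ea eb : ℕ → ℕ) (ix : ℕ → ℕ → ℕ) : Prop where
  lta : ∀ k < M, ea k < N
  ltb : ∀ k < M, eb k < N
  rel : ∀ k < M, R (ea k) (eb k) = true
  ixab : ∀ k < M, ix (ea k) (eb k) = k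
  ixba : ∀ k < M, ix (eb k) (ea k) = k
  lt : ∀ i < N, ∀ j < N, R i j = true → ix i j < M
  eq : ∀ i < N, ∀ j < N, R i j = true → (ea (ix i j) = i ∧ eb (ix i j) = j) ∨ (ea (ix i j) = j ∧ eb (ix i j) = i)

variable {N M : ℕ} {R : ℕ → ℕ → Bool} {ea eb : ℕ → ℕ} {ix : ℕ → ℕ → ℕ}

theorem Data.mk' (h1 : chkY N M R ea eb ix = true) (h2 : chkIx N M R ea eb ix = true) : Data N M R ea eb ix := by
  unfold chkY at h1
  unfold chkIx at h2
  rw [allB_iff] at h1 h2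
  have h3 : ∀ k < M, ea k < N ∧ eb k < N ∧ R (ea k) (eb k) = true ∧ ix (ea k) (eb k) = k ∧ ix (eb k) (ea k) = k := by
    intro k hk
    have h := h1 k hk
    rw [forceB_eq, forceB_eq, band_eq_true, band_eq_true, band_eq_true, band_eq_true] at h
    exact ⟨Nat.blt_eq ▸ h.1, Nat.blt_eq ▸ h.2.1, h.2.2.1, Nat.eq_of_beq_eq_true h.2.2.2.1,
      Nat.eq_of_beq_eq_true h.2.2.2.2⟩
  have h4 : ∀ i < N, ∀ j < N, R i j = true → ix i j < M ∧
      ((ea (ix i j) = i ∧ eb (ix i j) = j) ∨ (ea (ix i j) = j ∧ eb (ix i j) = i)) := by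
    intro i hi j hj hR
    have h := (allB_iff _ _).1 (h2 i hi) j hj
    rw [hR, cond_true, forceB_eq, band_eq_true, bor_iff, band_eq_true, band_eq_true] at h
    refine ⟨Nat.blt_eq ▸ h.1, ?_⟩
    rcases h.2 with h | h
    · exact Or.inl ⟨Nat.eq_of_beq_eq_true h.1, Nat.eq_of_beq_eq_true h.2⟩
    · exact Or.inr ⟨Nat.eq_of_beq_eq_true h.1, Nat.eq_of_beq_eq_true h.2⟩
  exact ⟨fun k hk => (h3 k hk).1, fun k hk => (h3 k hk).2.1, fun k hk => (h3 k hk).2.2.1,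
    fun k hk => (h3 k hk).2.2.2.1, fun k hk => (h3 k hk).2.2.2.2, fun i hi j hj h => (h4 i hi j hj h).1,
    fun i hi j hj h => (h4 i hi j hj h).2⟩

theorem Data.symm (D : Data N M R ea eb ix) {i j : ℕ} (hi : i < N) (hj : j < N) (h : R i j = true) :
    ix j i = ix i j := by
  have h1 := D.lt i hi j hj h
  rcases D.eq i hi j hj h with ⟨h2, h3⟩ | ⟨h2, h3⟩
  · have h4 := D.ixba _ h1
    rwa [h2, h3] at h4
  · have h4 := D.ixab _ h1
    rwa [h2, h3] at h4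

variable {G : Subgroup (Perm (Fin N))}

/-- the image of the number of a pair -/
def img (ea eb : ℕ → ℕ) (ix : ℕ → ℕ → ℕ) (D : Data N M R ea eb ix) (g : Perm (Fin N)) (k : Fin M) : ℕ :=
  ix ((g ⟨ea k, D.lta k k.2⟩ : Fin N) : ℕ) ((g ⟨eb k, D.ltb k k.2⟩ : Fin N) : ℕ)

theorem img_lt (D : Data N M R ea eb ix) {g : Perm (Fin N)} (hg : ∀ i j : Fin N, R (g i) (g j) = R i j) (k : Fin M) :
    img ea eb ix D g k < M := by
  refine D.lt _ (Fin.is_lt _) _ (Fin.is_lt _) ?_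
  rw [hg]
  exact D.rel k k.2

/-- the image of a pair -/
def act (D : Data N M R ea eb ix) (hR : ∀ g ∈ G, ∀ i j : Fin N, R (g i) (g j) = R i j) (g : G) (k : Fin M) : Fin M :=
  ⟨img ea eb ix D g k, img_lt D (hR g g.2) k⟩

theorem act_mul (D : Data N M R ea eb ix) (hR : ∀ g ∈ G, ∀ i j : Fin N, R (g i) (g j) = R i j) (g h : G) (k : Fin M) :
    act D hR (g * h) k = act D hR g (act D hR h k) := by
  apply Fin.ext
  show ix ((((g * h : G) : Perm (Fin N)) ⟨ea k, D.lta k k.2⟩ : Fin N) : ℕ)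
    ((((g * h : G) : Perm (Fin N)) ⟨eb k, D.ltb k k.2⟩ : Fin N) : ℕ) = ix _ _
  have hr : R (((h : Perm (Fin N)) ⟨ea k, D.lta k k.2⟩ : Fin N) : ℕ)
      (((h : Perm (Fin N)) ⟨eb k, D.ltb k k.2⟩ : Fin N) : ℕ) = true := by
    rw [hR h h.2]
    exact D.rel k k.2
  have hr' : R ((((g * h : G) : Perm (Fin N)) ⟨ea k, D.lta k k.2⟩ : Fin N) : ℕ)
      ((((g * h : G) : Perm (Fin N)) ⟨eb k, D.ltb k k.2⟩ : Fin N) : ℕ) = true := by
    rw [hR (g * h : G) (g * h : G).2]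
    exact D.rel k k.2
  set k' : Fin M := act D hR h k with hk'
  have hk'v : (k' : ℕ) = ix (((h : Perm (Fin N)) ⟨ea k, D.lta k k.2⟩ : Fin N) : ℕ)
      (((h : Perm (Fin N)) ⟨eb k, D.ltb k k.2⟩ : Fin N) : ℕ) := rfl
  rcases D.eq _ (Fin.is_lt _) _ (Fin.is_lt _) hr with ⟨h2, h3⟩ | ⟨h2, h3⟩
  · rw [← hk'v] at h2 h3
    have e1 : (⟨ea k', D.lta k' k'.2⟩ : Fin N) = (h : Perm (Fin N)) ⟨ea k, D.lta k k.2⟩ := Fin.ext h2
    have e2 : (⟨eb k', D.ltb k' k'.2⟩ : Fin N) = (h : Perm (Fin N)) ⟨eb k, D.ltb k k.2⟩ := Fin.ext h3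
    rw [e1, e2]
    rfl
  · rw [← hk'v] at h2 h3
    have e1 : (⟨ea k', D.lta k' k'.2⟩ : Fin N) = (h : Perm (Fin N)) ⟨eb k, D.ltb k k.2⟩ := Fin.ext h2
    have e2 : (⟨eb k', D.ltb k' k'.2⟩ : Fin N) = (h : Perm (Fin N)) ⟨ea k, D.lta k k.2⟩ := Fin.ext h3
    rw [e1, e2]
    exact (D.symm (Fin.is_lt _) (Fin.is_lt _) hr').symm

theorem act_one (D : Data N M R ea eb ix) (hR : ∀ g ∈ G, ∀ i j : Fin N, R (g i) (g j) = R i j) (k : Fin M) :
    act D hR 1 k = k := Fin.ext (D.ixab k k.2)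

/-- The representation on the pairs. -/
def rep (D : Data N M R ea eb ix) (hR : ∀ g ∈ G, ∀ i j : Fin N, R (g i) (g j) = R i j) : G →* Perm (Fin M) :=
  letI : MulAction G (Fin M) :=
    { smul := act D hR
      one_smul := act_one D hR
      mul_smul := act_mul D hR }
  MulAction.toPermHom G (Fin M)

theorem rep_apply (D : Data N M R ea eb ix) (hR : ∀ g ∈ G, ∀ i j : Fin N, R (g i) (g j) = R i j) (g : G) (k : Fin M) :
    rep D hR g k = act D hR g k := rfl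

/-- the action of the table `P` -/
def ap (ea eb : ℕ → ℕ) (ix : ℕ → ℕ → ℕ) (P k : ℕ) : ℕ := ix (lk P (ea k)) (lk P (eb k))

/-- **Degrees from the action on the pairs.** -/
theorem deg_of_pairs {n : ℕ} (D : Data N M R ea eb ix) (hR : ∀ g ∈ G, ∀ i j : Fin N, R (g i) (g j) = R i j)
    {m : ℕ} (T : Fin m → ℕ) (hT : ∀ x, InG G (T x)) {KW : List (List (Fin m))} {bs : List ℕ} {pr kk : ℕ → ℕ}
    {γ : ℕ → List (Fin m)} {c₁ : ℕ} {B : ℕ → ℕ → ℕ} {st : ℕ} (hcard : Nat.card G = M * st)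
    (hM : 0 < M) (hM' : M < 65536) (hlab0 : lab bs 0 = 0) (hn : 0 < n) (hc₁ : c₁ < n)
    (hBB : ∀ i < n, ∀ j < n, B i j < 65536)
    (h1 : allL (Pts.chkW (fun x => ap ea eb ix (T x)) M bs) KW = true)
    (h2 : Pts.chkF (fun x => ap ea eb ix (T x)) M bs KW pr = true) (h3 : chkK M n bs kk = true)
    (h4 : Pts.chkB (fun x => ap ea eb ix (T x)) M n c₁ bs γ B = true)
    (hdiv : ∀ J : Finset (Fin n), ⟨c₁, hc₁⟩ ∈ J → (∑ j ∈ J, kk j) ∣ st → J = {⟨c₁, hc₁⟩})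
    (a : Fin n → ℚ) (t : ℚ) (L : Fin n → Fin n → ℚ) (d : ℕ)
    (ha : a ⟨0, hn⟩ = 1) (hBa : ∀ i : Fin n, ∑ j : Fin n, (B i j : ℚ) * a j = t * a i)
    (hL : ∀ i j : Fin n, ∑ l : Fin n, L i l * ((B l j : ℚ) - if l = j then t else 0) =
      (if i = j then 1 else 0) - if j = ⟨0, hn⟩ then a i else 0)
    (hd : (d : ℚ) * ∑ j : Fin n, (kk j : ℚ) * (a j * a j) = M) :
    ∃ χ : IrrCharacter G, charDegree (χ : G → ℂ) = d := by
  choose s hs hsi using hT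
  refine deg_of_pts (rep D hR) (fun x => (⟨s x, hs x⟩ : G)) (fun x => ap ea eb ix (T x)) ?_ hcard hM hM' hlab0 hn hc₁ hBB h1
    h2 h3 h4 hdiv a t L d ha hBa hL hd
  intro x k
  rw [rep_apply]
  show ix (((s x) ⟨ea k, D.lta k k.2⟩ : Fin N) : ℕ) (((s x) ⟨eb k, D.ltb k k.2⟩ : Fin N) : ℕ) = _
  rw [hsi, hsi]
  rfl

end Cfsg.Agent.H678.DG.PairRep
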