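import Cfsg.Agent.HN.AutHS
import Cfsg.Agent.H678.DG.HSData
import Cfsg.Agent.H678.DG.PairRep

/-!
# The Higman-Sims group has irreducible characters of degrees 770 and 1056 (helper678)
-/

set_option autoImplicit false
set_option maxRecDepth 100000

namespace Cfsg.Agent.H678.DG.HSDeg

open Cfsg Equiv Cfsg.Agent.SporadicA.PermTab Cfsg.Agent.HN Cfsg.Agent.HN.HS100 Cfsg.Agent.H678.DG.Blk Cfsg.Agent.H678.DG.Pts Cfsg.Agent.H678.DG.PairRep Cfsg.Agent.H678.DG.HSData

/-- first points -/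
def ea (k : ℕ) : ℕ := lk ta k

/-- second points -/
def eb (k : ℕ) : ℕ := lk tb k

/-- the number of a pair -/
def ix (i j : ℕ) : ℕ := Nat.land (Nat.shiftRight ixt (Nat.mul 12 (Nat.add (Nat.mul 100 i) j))) 4095

/-- the parents -/
def pr (k : ℕ) : ℕ := Nat.land (Nat.shiftRight prt (Nat.mul 12 k)) 4095

/-- nonadjacent distinct vertices -/
def R (i j : ℕ) : Bool := band (Nat.beq (bitM 100 adjA i j) 0) (nbeq i j)

theorem dat : Data 100 3850 R ea eb ix := Data.mk' (by decide +kernel) (by decide +kernel)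

theorem hR : ∀ g ∈ Q, ∀ i j : Fin 100, R (g i) (g j) = R i j := by
  intro g hg i j
  have h1 := (AutBound.mem_Q_iff.1 hg).1 i j
  unfold R
  rw [h1]
  congr 1
  rw [Bool.eq_iff_iff, nbeq_iff, nbeq_iff, Ne, Ne, ← Fin.ext_iff, ← Fin.ext_iff, g.injective.eq_iff]

/-- the permutations -/
def T (x : Fin 13) : ℕ := [T0, T1, T2, T3, T4, T5, T6, T7, T8, T9, T10, T11, T12].getD x 0

theorem in0 : InG Q T0 := word_of (L := [tY, tX, tW, tY, tW, tW, tY, tW, tW, tW, tW, tW, tX, tW, tW, tW, tW, tW, tW,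
    tW, tW, tW, tW, tY, tY, tY, tY, tY]) (mem3 inX inY inW) (by simp) (by decide +kernel)

theorem in1 : InG Q T1 := word_of (L := [tW, tX, tY, tW, tY, tW, tY, tX, tY, tY, tY, tY, tY, tX, tW, tW, tW, tW, tW,
    tY, tY, tY, tY, tY, tW, tW, tW, tW, tW]) (mem3 inX inY inW) (by simp) (by decide +kernel)

theorem in2 : InG Q T2 := word_of (L := [tY]) (mem3 inX inY inW) (by simp) (by decide +kernel)

theorem in3 : InG Q T3 := word_of (L := [tY, tX, tY]) (mem3 inX inY inW) (by simp) (by decide +kernel)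

theorem in4 : InG Q T4 := word_of (L := [tY, tY, tY]) (mem3 inX inY inW) (by simp) (by decide +kernel)

theorem in5 : InG Q T5 := word_of (L := [tY, tY, tX, tY]) (mem3 inX inY inW) (by simp) (by decide +kernel)

theorem in6 : InG Q T6 := word_of (L := [tY, tY, tW, tY]) (mem3 inX inY inW) (by simp) (by decide +kernel)

theorem in7 : InG Q T7 := word_of (L := [tY, tW, tX, tY]) (mem3 inX inY inW) (by simp) (by decide +kernel)

theorem in8 : InG Q T8 := word_of (L := [tY, tX, tY, tX, tW]) (mem3 inX inY inW) (by simp) (by decide +kernel)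

theorem in9 : InG Q T9 := word_of (L := [tY, tX, tY, tW, tW]) (mem3 inX inY inW) (by simp) (by decide +kernel)

theorem in10 : InG Q T10 := word_of (L := [tY, tX, tW, tX, tW]) (mem3 inX inY inW) (by simp) (by decide +kernel)

theorem in11 : InG Q T11 := word_of (L := [tY, tX, tW, tY, tY, tY, tW]) (mem3 inX inY inW) (by simp)
    (by decide +kernel)

theorem in12 : InG Q T12 := word_of (L := [tY, tY, tX, tY, tY, tY, tY]) (mem3 inX inY inW) (by simp)
    (by decide +kernel)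

theorem hT (x : Fin 13) : InG Q (T x) := by
  fin_cases x
  exacts [in0, in1, in2, in3, in4, in5, in6, in7, in8, in9, in10, in11, in12]

/-- the roots -/
def bs : List ℕ := [1, 1441, 1633, 2593, 2833, 3193, 3283, 3403, 3643, 3803, 3835]

/-- words of the stabiliser -/
def KW : List (List (Fin 13)) := [[0], [1]]

/-- sizes -/
def kk (j : ℕ) : ℕ := [1, 1440, 192, 960, 240, 360, 90, 120, 240, 160, 32, 15].getD j 0

/-- the permutations mapping the first pair to the roots -/ def gam (j : ℕ) : List (Fin 13) := [[], [2], [3], [4],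
    [5], [6], [7], [8], [9], [10], [11], [12]].getD j []

/-- the collapsed matrix -/ def B (i j : ℕ) : ℕ := ([[0, 0, 0, 0, 0, 0, 90, 0, 0, 0, 0, 0], [0, 40, 4, 20, 8, 9, 0,
    2, 2, 4, 1, 0], [0, 30, 15, 30, 0, 0, 0, 0, 15, 0, 0, 0], [0, 30, 6, 30, 3, 3, 3, 6, 6, 3, 0, 0], [0, 48, 0, 12,
    9, 6, 3, 0, 0, 12, 0, 0], [0, 36, 0, 8, 4, 25, 0, 2, 10, 0, 4, 1], [1, 0, 0, 32, 8, 0, 19, 4, 8, 16, 0, 2], [0,
    24, 0, 48, 0, 6, 3, 3, 6, 0, 0, 0], [0, 12, 12, 24, 0, 15, 3, 3, 18, 0, 0, 3], [0, 36, 0, 18, 18, 0, 9, 0, 0, 9,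
    0, 0], [0, 45, 0, 0, 0, 45, 0, 0, 0, 0, 0, 0], [0, 0, 0, 0, 0, 24, 12, 0, 48, 0, 0, 6]].getD i []).getD j 0

theorem c1 : allL (Pts.chkW (fun x => ap ea eb ix (T x)) 3850 bs) KW = true := by decide +kernel

theorem c2 : Pts.chkF (fun x => ap ea eb ix (T x)) 3850 bs KW pr = true := by decide +kernel

theorem c3 : chkK 3850 12 bs kk = true := by decide +kernel

theorem c4 : Pts.chkB (fun x => ap ea eb ix (T x)) 3850 12 6 bs gam B = true := by decide +kernel

theorem hdiv : ∀ J : Finset (Fin 12), 6 ∈ J → (∑ j ∈ J, kk j) ∣ 11520 → J = {6} := by decide +kernel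

/-- The degree for an eigenvalue. -/
theorem deg (a : Fin 12 → ℚ) (t : ℚ) (L : Fin 12 → Fin 12 → ℚ) (d : ℕ)
    (ha : a 0 = 1) (hBa : ∀ i : Fin 12, ∑ j : Fin 12, (B i j : ℚ) * a j = t * a i)
    (hL : ∀ i j : Fin 12, ∑ l : Fin 12, L i l * ((B l j : ℚ) - if l = j then t else 0) =
      (if i = j then 1 else 0) - if j = 0 then a i else 0)
    (hd : (d : ℚ) * ∑ j : Fin 12, (kk j : ℚ) * (a j * a j) = (3850 : ℕ)) :
    ∃ χ : IrrCharacter Q, charDegree (χ : Q → ℂ) = d :=
  deg_of_pairs dat hR T hT (KW := KW) (bs := bs) (pr := pr) (kk := kk) (γ := gam) (c₁ := 6) (B := B) (st := 11520)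
    (by rw [AutBound.card_Q]) (by norm_num) (by norm_num) (by decide +kernel) (by norm_num) (by norm_num)
    (by decide +kernel) c1 c2 c3 c4 hdiv a t L d ha hBa hL hd

theorem deg_770 : ∃ χ : IrrCharacter Q, charDegree (χ : Q → ℂ) = 770 :=
    deg ![1, -1/240, -1/48, -1/120, 1/20, 1/60, -1/30, 1/30, 1/20, -1/40, -3/16, -4/15] (-3) ![![0, 0, 0, 0, 0, 0, 0,
    0, 0, 0, 0, 0], ![467/111600, 9/310, -23/4650, -1/75, 117/3100, 11/3100, -13/1550, 109/18600, 41/9300, -51/1550,
    -67/4650, 0], ![-19/5580, 27/248, 43/1860, 1/30, -163/1860, -61/1240, 77/2480, -89/1240, -2/465, 1/620, 109/3720,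
    0], ![-233/111600, 53/1240, 89/9300, -7/150, -17/775, -83/6200, 181/12400, 277/9300, -49/9300, -1/9300, 67/18600,
    0], ![-53/12400, -61/1240, -63/3100, 7/150, -433/4650, 23/6200, -461/12400, -43/2325, 73/3100, 457/3100, 71/6200,
    0], ![-101/27900, -2/31, -2/2325, 2/75, -37/1550, -13/775, -9/1550, -1/2325, 22/2325, 36/775, 34/775, 0], ![1/90,
    0, 0, 0, 0, 0, 0, 0, 0, 0, 0, 0], ![-13/6975, -37/310, -199/2325, 8/25, -39/1550, 24/775, -43/1550, -509/4650,
    19/2325, 17/775, -7/4650, 0], ![-1/9300, -17/62, 23/775, 2/25, 57/775, 61/775, -77/1550, 23/1550, 16/2325,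
    149/2325, -21/1550, 0], ![-211/18600, -12/155, 24/775, 1/25, 46/775, 3/775, 183/3100, -107/3100, -63/1550,
    -181/4650, 16/775, 0], ![-21/2480, 33/62, 27/310, -1/5, -129/620, 123/620, 33/155, -101/1240, -129/620, -63/310,
    -101/930, 0], ![647/27900, 91/62, -207/775, -18/25, 11/2325, -323/1550, 611/3100, 77/2325, 631/2325, -447/775,
    -983/4650, 0]] 770 (by decide +kernel) (by decide +kernel) (by decide +kernel) (by decide +kernel)

theorem deg_1056 : ∃ χ : IrrCharacter Q, charDegree (χ : Q → ℂ) = 1056 :=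
    deg ![1, -1/90, -1/48, 11/480, 1/120, -1/90, -4/45, -1/20, 1/120, 3/80, 1/8, 1/15] (-8) ![![0, 0, 0, 0, 0, 0, 0,
    0, 0, 0, 0, 0], ![1229/28980, -72/805, -256/805, 214/345, -218/805, -160/483, -317/966, -187/805, 53/161,
    142/345, 61/345, 0], ![-1381/15456, 51/161, 85/92, -3149/1288, 171/184, 155/644, 1895/2576, 1443/1288, -105/184,
    -1277/1288, -103/644, 0], ![-191/6720, -1/70, 1/56, 61/112, -1/560, 139/280, 229/1120, -211/560, -169/560,
    -159/560, -69/280, 0], ![-7379/38640, 106/115, 2657/1610, -12819/3220, 3607/3220, 451/322, 1957/1288, 5153/3220,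
    -953/644, -5587/3220, -1313/1610, 0], ![-583/28980, -112/345, 44/2415, 1396/2415, 928/2415, 244/805, 277/1610,
    -761/2415, -521/2415, -1108/2415, -268/2415, 0], ![1/90, 0, 0, 0, 0, 0, 0, 0, 0, 0, 0, 0], ![-129/6440, 472/805,
    817/805, -7759/1610, 1399/1610, -988/805, 677/3220, 865/322, 433/1610, -159/1610, 87/161, 0], ![4213/38640,
    -32/115, -1207/1610, 4569/3220, -2833/3220, -563/805, -5671/6440, -1609/3220, 2641/3220, 4073/3220, 619/1610, 0],
    ![153/1120, -27/35, -153/140, 93/40, -171/280, -183/140, -633/560, -45/56, 333/280, 53/40, 3/4, 0], ![-323/2576,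
    375/161, 543/322, -4341/644, -411/644, 51/322, 1131/1288, 1983/644, -411/644, 171/644, -79/322, 0], ![-29/69,
    2136/805, 2274/805, -5979/805, 1783/805, 1742/805, 379/115, 2159/805, -2081/805, -3203/805, -1138/805, 0]] 1056
    (by decide +kernel) (by decide +kernel) (by decide +kernel) (by decide +kernel)

end Cfsg.Agent.H678.DG.HSDeg
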