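import Cfsg.Agent.H678.DG.Basic
import Cfsg.Agent.H417.DegMTwelve
import Cfsg.Agent.H417.RecogMTwelve
import Cfsg.Agent.H590.MElevenDeg

/-!
# Degree graph facts for the Mathieu groups of degrees 11 and 12 (helper678)

* `facts_m11`, `facts_m12`.
-/

set_option autoImplicit false

namespace Cfsg.Agent.H678.DG.Mathieu

open Cfsg Cfsg.Agent.Characters.Core

universe u

theorem im_m11 {S : Type u} [Group S] [Finite S] (h : Cfsg.IsM11 S) {d : ℕ}
    (hd : d ∈ [10, 44, 45, 55]) : H671.H5.IM d S := by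
  obtain ⟨e, he⟩ := H590.MElevenDeg.exists_equiv h
  have key : ∀ i : Fin 10, H671.H5.IM (H590.MElevenDeg.deg10 i) S := fun i =>
    ⟨e i, by rw [H670.PSing.charDegree_eq_of (he i)]⟩
  simp only [List.mem_cons, List.not_mem_nil, or_false] at hd
  rcases hd with rfl | rfl | rfl | rfl
  · exact key 1
  · exact key 8
  · exact key 4
  · exact key 9

/-- The degree graph of `M11`. -/
theorem facts_m11 {S : Type u} [Group S] (h : Cfsg.Spor.IsoM11 S) : Facts S := by
  have h' := UGT.End.MEleven.isM11 h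
  have : Finite S := Nat.finite_of_card_ne_zero (by rw [h'.2]; norm_num)
  refine Facts.of_list (P := [2, 3, 5, 11]) (D := [10, 44, 45, 55]) ?_ (by decide)
    (mem_of_card (f := fun _ => 5) ?_ ?_) (fun d hd => im_m11 h' hd) (by decide +kernel)
  · intro p hp; fin_cases hp <;> norm_num
  · rw [h'.2]; decide +kernel
  · intro p hp; fin_cases hp <;> norm_num

theorem exists_120 {G : Type u} [Group G] [Finite G] (hG : Cfsg.IsM12 G) : H671.H5.IM 120 G := by
  classical
  have hs : IsSimpleGroup G := hG.1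
  have hc : Nat.card G = 95040 := hG.2
  have := Fintype.ofFinite G
  have := finite_irr (G := G)
  have := Fintype.ofFinite (IrrCharacter G)
  obtain ⟨C, t, hdeg, ho, ht2, ht1, hst⟩ := H417.DegMTwelve.exists_ctx hc
    (fun P => Cfsg.Agent.MTwelve.SylowEleven.centralizer_sylow11 hc P)
    (fun P => Cfsg.Agent.MTwelve.SylowEleven.card_normalizer_sylow11 hc P)
  have hcd : ∀ ψ : IrrCharacter G, charDegree (ψ : G → ℂ) = C.deg ψ := fun ψ => by
    rw [hdeg]
    exact Cfsg.Agent.MTwelve.ElevenMain.charDegree_eq_deg ψ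
  exact ⟨C.c120, by rw [hcd, C.d120]⟩

/-- The degree graph of `M12`. -/
theorem facts_m12 {S : Type u} [Group S] (h : Cfsg.Spor.IsoM12 S) : Facts S := by
  obtain ⟨e⟩ := h
  have h12 : IsM12 Spor.M12 := ⟨CpAutTThree.MTwelve.simple, CpAutTThree.MTwelve.card⟩
  have hcard : Nat.card Spor.M12 = 95040 := h12.2
  have : Finite Spor.M12 := Nat.finite_of_card_ne_zero (by rw [hcard]; norm_num)
  refine Facts.of_equiv e ?_
  obtain ⟨⟨d, ⟨χ, hχ⟩, hd⟩, ⟨d', ⟨χ', hχ'⟩, hd'⟩⟩ := H417.DegMTwelve.exists_both h12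
  refine Facts.of_list (P := [2, 3, 5, 11]) (D := [120, 55, 33]) ?_ (by decide)
    (mem_of_card (f := fun _ => 6) ?_ ?_) ?_ (by decide +kernel)
  · intro p hp; fin_cases hp <;> norm_num
  · rw [hcard]; decide +kernel
  · intro p hp; fin_cases hp <;> norm_num
  · intro m hm
    simp only [List.mem_cons, List.not_mem_nil, or_false] at hm
    rcases hm with rfl | rfl | rfl
    · exact exists_120 h12
    · exact ⟨χ, by rw [hχ]; exact hd⟩
    · exact ⟨χ', by rw [hχ']; exact hd'⟩

end Cfsg.Agent.H678.DG.Mathieu
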