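import Cfsg.Agent.H678.DG.Idx
import Cfsg.Agent.SporadicA.PermTab

/-!
# Degrees from an orbit of subsets, with tables (helper678)

`G` is a group of permutations of `Fin N`; `F x`, `x < M`, are subsets of `Fin N` (as Boolean functions) permuted by
`G`; the relation is "the intersection has exactly `s` elements". All the hypotheses are Boolean checks on tables.

* `Cor G F M q` : some element of `G` maps `F x` to `F (q x)` for all `x < M`;
* `lab bs x` : the index of the interval of `x` (the orbits of the stabiliser of `F 0` are intervals);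
* `deg_of_tables` : the main theorem.
-/

set_option autoImplicit false

namespace Cfsg.Agent.H678.DG.Blk

open Cfsg Equiv Cfsg.Agent.SporadicA.PermTab

/-- Subsets of `Fin N`. -/
abbrev Y (N : ℕ) : Type := Fin N → Bool

variable {N : ℕ}

instance act (G : Subgroup (Perm (Fin N))) : MulAction G (Y N) where
  smul g f := fun i => f ((g : Perm (Fin N))⁻¹ i)
  one_smul _ := rfl
  mul_smul g h f := by
    funext i
    show f (((g * h : G) : Perm (Fin N))⁻¹ i) = f ((h : Perm (Fin N))⁻¹ ((g : Perm (Fin N))⁻¹ i))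
    rw [Subgroup.coe_mul, mul_inv_rev, Perm.mul_apply]

variable {G : Subgroup (Perm (Fin N))}

theorem smul_apply (g : G) (f : Y N) (i : Fin N) : (g • f) i = f ((g : Perm (Fin N))⁻¹ i) := rfl

theorem pinv_apply (g : Perm (Fin N)) (i : Fin N) : g⁻¹ (g i) = i := g.symm_apply_apply i

theorem papply_inv (g : Perm (Fin N)) (i : Fin N) : g (g⁻¹ i) = i := g.apply_symm_apply i

/-- The size of the intersection. -/
def isz (f f' : Y N) : ℕ := (Finset.univ.filter fun i : Fin N => f i = true ∧ f' i = true).card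

theorem isz_smul (g : G) (f f' : Y N) : isz (g • f) (g • f') = isz f f' := by
  unfold isz
  refine Finset.card_bij (fun i _ => (g : Perm (Fin N))⁻¹ i) ?_ ?_ ?_
  · intro i hi
    rw [Finset.mem_filter] at hi ⊢
    exact ⟨Finset.mem_univ _, hi.2.1, hi.2.2⟩
  · intro i _ j _ h
    exact ((g : Perm (Fin N))⁻¹).injective h
  · intro i hi
    refine ⟨(g : Perm (Fin N)) i, ?_, ?_⟩
    · rw [Finset.mem_filter] at hi ⊢
      refine ⟨Finset.mem_univ _, ?_, ?_⟩
      · rw [smul_apply, pinv_apply]; exact hi.2.1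
      · rw [smul_apply, pinv_apply]; exact hi.2.2
    · exact pinv_apply _ _

variable (F : ℕ → Y N) (M : ℕ)

/-- Some element of `G` acts as `q`. -/
def Cor (G : Subgroup (Perm (Fin N))) (F : ℕ → Y N) (M : ℕ) (q : ℕ → ℕ) : Prop :=
  ∃ g : G, ∀ x < M, q x < M ∧ g • F x = F (q x)

variable {F M}

theorem Cor.id : Cor G F M (fun x => x) := ⟨1, fun _ hx => ⟨hx, one_smul _ _⟩⟩

theorem Cor.comp {q q' : ℕ → ℕ} (h : Cor G F M q) (h' : Cor G F M q') : Cor G F M (fun x => q' (q x)) := by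
  obtain ⟨g, hg⟩ := h
  obtain ⟨g', hg'⟩ := h'
  refine ⟨g' * g, fun x hx => ?_⟩
  obtain ⟨h1, h2⟩ := hg x hx
  obtain ⟨h3, h4⟩ := hg' _ h1
  exact ⟨h3, by rw [mul_smul, h2, h4]⟩

theorem Cor.ev {L : List ℕ} (h : ∀ Q ∈ L, Cor G F M (lk Q)) : Cor G F M (ev L) := by
  induction L with
  | nil => exact Cor.id
  | cons Q L ih => exact (h Q List.mem_cons_self).comp (ih fun R hR => h R (List.mem_cons_of_mem _ hR))

/-- The set `F` is permuted by `G`. -/
theorem closed {GT : Set (Perm (Fin N))} (hG : G = Subgroup.closure GT)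
    (hgen : ∀ g ∈ GT, ∀ (hg : g ∈ G), ∀ x < M, ∃ y < M, (⟨g, hg⟩ : G) • F x = F y)
    (hinj : ∀ x < M, ∀ y < M, F x = F y → x = y) (g : G) : ∀ x < M, ∃ y < M, g • F x = F y := by
  obtain ⟨g, hg⟩ := g
  subst hG
  induction hg using Subgroup.closure_induction with
  | mem g hg => exact hgen g hg (Subgroup.subset_closure hg)
  | one => exact fun x hx => ⟨x, hx, one_smul _ _⟩
  | mul a b ha hb iha ihb =>
    intro x hx
    obtain ⟨y, hy, h1⟩ := ihb x hx
    obtain ⟨z, hz, h2⟩ := iha y hy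
    refine ⟨z, hz, ?_⟩
    have e : (⟨a * b, mul_mem ha hb⟩ : Subgroup.closure GT) = ⟨a, ha⟩ * ⟨b, hb⟩ := rfl
    rw [e, mul_smul, h1, h2]
  | inv a ha iha =>
    choose! f hf1 hf2 using iha
    have hfi : Function.Injective (fun x : Fin M => (⟨f x, hf1 x x.2⟩ : Fin M)) := by
      intro x y h
      have h1 : f x = f y := congrArg Fin.val h
      have h2 := hf2 x x.2
      rw [h1, ← hf2 y y.2] at h2
      exact Fin.ext (hinj _ x.2 _ y.2 (smul_left_cancel _ h2))
    intro x hx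
    obtain ⟨y, hy⟩ := Finite.surjective_of_injective hfi ⟨x, hx⟩
    refine ⟨y, y.2, ?_⟩
    have h1 := hf2 y y.2
    have h2 : f y = x := congrArg Fin.val hy
    rw [h2] at h1
    have e : (⟨a⁻¹, inv_mem ha⟩ : Subgroup.closure GT) = (⟨a, ha⟩ : Subgroup.closure GT)⁻¹ := rfl
    rw [e, ← h1, inv_smul_smul]

/-- The interval of `x`. -/
def lab : List ℕ → ℕ → ℕ := List.rec (fun _ => 0) (fun b _ ih x => cond (Nat.blt x b) 0 (Nat.succ (ih x)))

/-- The subgroup of the stabiliser of `F 0` preserving the labels. -/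
def KK (hcl : ∀ g : G, ∀ x < M, ∃ y < M, g • F x = F y) (hinj : ∀ x < M, ∀ y < M, F x = F y → x = y)
    (lb : ℕ → ℕ) : Subgroup G where
  carrier := {g | g • F 0 = F 0 ∧ ∀ x < M, ∀ y < M, g • F x = F y → lb y = lb x}
  one_mem' := ⟨one_smul _ _, fun x hx y hy h => by
    rw [one_smul] at h
    rw [hinj x hx y hy h]⟩
  mul_mem' := by
    rintro a b ⟨h1, h2⟩ ⟨h3, h4⟩
    refine ⟨by rw [mul_smul, h3, h1], fun x hx y hy h => ?_⟩
    obtain ⟨z, hz, h5⟩ := hcl b x hx
    rw [mul_smul, h5] at h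
    rw [h2 z hz y hy h, h4 x hx z hz h5]
  inv_mem' := by
    rintro a ⟨h1, h2⟩
    refine ⟨by rw [inv_smul_eq_iff, h1], fun x hx y hy h => ?_⟩
    rw [inv_smul_eq_iff] at h
    exact (h2 y hy x hx h.symm).symm

theorem cntB_iff (p : ℕ → Bool) (n m : ℕ) :
    cntB p n m = true ↔ ((Finset.range n).filter (fun i => p i = true)).card = m := by
  constructor
  · exact card_of_cntB p n m
  · rintro rfl
    induction n with
    | zero => rfl
    | succ n ih =>
      rw [cntB_succ, Finset.range_add_one, Finset.filter_insert]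
      cases hp : p n with
      | true =>
        rw [if_pos rfl, Finset.card_insert_of_notMem (by simp)]
        exact ih
      | false =>
        rw [if_neg (by simp)]
        exact ih

theorem card_fin (p : ℕ → Bool) (n : ℕ) :
    ((Finset.univ : Finset (Fin n)).filter (fun i : Fin n => p i = true)).card =
      ((Finset.range n).filter (fun i => p i = true)).card :=
  card_fin_of_cntB p n _ ((cntB_iff p n _).2 rfl)

/-- bit `i` of `m` -/
def tb (m i : ℕ) : Bool := Nat.beq (Nat.land (Nat.shiftRight m i) 1) 1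

theorem tb_eq (m i : ℕ) : tb m i = m.testBit i := by
  unfold tb Nat.testBit
  have h : Nat.land (Nat.shiftRight m i) 1 = 1 &&& (m >>> i) := Nat.land_comm _ _
  rw [h]
  rcases Nat.mod_two_eq_zero_or_one (m >>> i) with h2 | h2
  · rw [Nat.one_and_eq_mod_two, h2]; rfl
  · rw [Nat.one_and_eq_mod_two, h2]; rfl

/-- equality of Booleans -/
def beqb (x y : Bool) : Bool := Bool.rec (Bool.rec true false y) (Bool.rec false true y) x

theorem beqb_iff (x y : Bool) : beqb x y = true ↔ x = y := by cases x <;> cases y <;> simp [beqb]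

/-- disjunction -/
def bor (x y : Bool) : Bool := Bool.rec y true x

theorem bor_iff (x y : Bool) : bor x y = true ↔ x = true ∨ y = true := by cases x <;> cases y <;> simp [bor]

/-- some member of a list satisfies `p` -/
def anyB {α : Type} (p : α → Bool) : List α → Bool := List.rec false (fun a _ ih => bor (p a) ih)

theorem anyB_iff {α : Type} (p : α → Bool) (l : List α) : anyB p l = true ↔ ∃ a ∈ l, p a = true := by
  induction l with
  | nil => simp [anyB]
  | cons a l ih =>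
    have h : anyB p (a :: l) = bor (p a) (anyB p l) := rfl
    rw [h, bor_iff, ih]
    simp

/-- all members of a list satisfy `p` -/
def allL {α : Type} (p : α → Bool) : List α → Bool := List.rec true (fun a _ ih => band (p a) ih)

theorem allL_iff {α : Type} (p : α → Bool) (l : List α) : allL p l = true ↔ ∀ a ∈ l, p a = true := by
  induction l with
  | nil => simp [allL]
  | cons a l ih =>
    have h : allL p (a :: l) = band (p a) (allL p l) := rfl
    rw [h, band_eq_true, ih]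
    simp

/-- the second components -/
def snds : List (ℕ × ℕ) → List ℕ := List.rec [] (fun a _ ih => a.2 :: ih)

theorem mem_snds {w : List (ℕ × ℕ)} {Q : ℕ} (h : Q ∈ snds w) : ∃ P, (P, Q) ∈ w := by
  induction w with
  | nil => simp [snds] at h
  | cons a w ih =>
    have h1 : snds (a :: w) = a.2 :: snds w := rfl
    rw [h1, List.mem_cons] at h
    rcases h with rfl | h
    · exact ⟨a.1, List.mem_cons_self⟩
    · obtain ⟨P, hP⟩ := ih h
      exact ⟨P, List.mem_cons_of_mem _ hP⟩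

/-- the `j`-th root -/
def rt (bs : List ℕ) : ℕ → ℕ := List.rec (fun _ => 0) (fun b _ ih j => Nat.rec b (fun j' _ => ih j') j) (0 :: bs)

/-- the subsets -/
def Fm (N : ℕ) (mk : ℕ → ℕ) (x : ℕ) : Y N := fun i => tb (mk x) i

/-- A table of the group and the table of its action on the subsets. -/
def chkPQ (N M : ℕ) (mk : ℕ → ℕ) (pq : ℕ × ℕ) : Bool :=
  allB (fun x => forceB (lk pq.2 x) fun y => band (Nat.blt y M) (forceB (mk x) fun m => forceB (mk y) fun m' =>
    allB (fun i => beqb (tb m' (lk pq.1 i)) (tb m i)) N)) M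

theorem cor_of_chkPQ {mk : ℕ → ℕ} {pq : ℕ × ℕ} (h : chkPQ N M mk pq = true) (g : G)
    (hg : ∀ i : Fin N, (((g : Perm (Fin N)) i : Fin N) : ℕ) = lk pq.1 i) :
    ∀ x < M, lk pq.2 x < M ∧ g • Fm N mk x = Fm N mk (lk pq.2 x) := by
  intro x hx
  have h1 := (allB_iff _ _).1 h x hx
  rw [forceB_eq, band_eq_true, forceB_eq, forceB_eq] at h1
  refine ⟨Nat.blt_eq ▸ h1.1, ?_⟩
  funext i
  rw [smul_apply]
  have h2 := (beqb_iff _ _).1 ((allB_iff _ _).1 h1.2 (((g : Perm (Fin N))⁻¹ i : Fin N) : ℕ) (Fin.is_lt _))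
  rw [← hg, papply_inv] at h2
  exact h2.symm

/-- distinctness -/
def chkInj (M : ℕ) (N : ℕ) (mk : ℕ → ℕ) : Bool :=
  allB (fun x => forceB (mk x) fun m => band (Nat.blt m (Nat.pow 2 N)) (allB (fun y => nbeq m (mk y)) x)) M

theorem inj_of_chk {mk : ℕ → ℕ} (h : chkInj M N mk = true) :
    ∀ x < M, ∀ y < M, Fm N mk x = Fm N mk y → x = y := by
  have key : ∀ x < M, mk x < 2 ^ N ∧ ∀ y < x, mk x ≠ mk y := by
    intro x hx
    have h1 := (allB_iff _ _).1 h x hx
    rw [forceB_eq, band_eq_true] at h1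
    refine ⟨Nat.blt_eq ▸ h1.1, fun y hy => ?_⟩
    exact (nbeq_iff _ _).1 ((allB_iff _ _).1 h1.2 y hy)
  have heq : ∀ x < M, ∀ y < M, Fm N mk x = Fm N mk y → mk x = mk y := by
    intro x hx y hy hxy
    refine Nat.eq_of_testBit_eq fun i => ?_
    by_cases hi : i < N
    · have h1 := congrFun hxy ⟨i, hi⟩
      rw [← tb_eq, ← tb_eq]
      exact h1
    · have h1 : (2 : ℕ) ^ N ≤ 2 ^ i := Nat.pow_le_pow_right (by norm_num) (not_lt.1 hi)
      rw [Nat.testBit_lt_two_pow (lt_of_lt_of_le (key x hx).1 h1),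
        Nat.testBit_lt_two_pow (lt_of_lt_of_le (key y hy).1 h1)]
  intro x hx y hy hxy
  have h1 := heq x hx y hy hxy
  rcases lt_trichotomy x y with h2 | h2 | h2
  · exact absurd h1.symm ((key y hy).2 x h2)
  · exact h2
  · exact absurd h1 ((key x hx).2 y h2)

/-- A word of the stabiliser preserving the labels. -/
def chkW (M : ℕ) (bs : List ℕ) (w : List (ℕ × ℕ)) : Bool :=
  band (Nat.beq (ev (snds w) 0) 0) (allB (fun x => Nat.beq (lab bs (ev (snds w) x)) (lab bs x)) M)

/-- The forest of parents. -/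
def chkF (M : ℕ) (bs : List ℕ) (PQ : List (ℕ × ℕ)) (KW : List (List (ℕ × ℕ))) (pr : ℕ → ℕ) : Bool :=
  allB (fun x => bor (Nat.beq x 0) (forceB (pr x) fun y => band (Nat.blt y x)
    (bor (band (Nat.beq (lab bs y) (lab bs x)) (anyB (fun w => Nat.beq (ev (snds w) y) x) KW))
      (band (Nat.beq (rt bs (lab bs x)) x) (anyB (fun pq => Nat.beq (lk pq.2 y) x) PQ))))) M

/-- The labels are smaller than `n` and the classes have sizes `kk`. -/
def chkK (M n : ℕ) (bs : List ℕ) (kk : ℕ → ℕ) : Bool :=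
  band (allB (fun x => Nat.blt (lab bs x) n) M) (band (allB (fun j => Nat.blt (rt bs j) M) n)
    (allB (fun j => cntB (fun x => Nat.beq (lab bs x) j) M (kk j)) n))

/-- The collapsed matrix. -/
def chkB (N M n s : ℕ) (mk : ℕ → ℕ) (bs : List ℕ) (B : ℕ → ℕ → ℕ) : Bool :=
  allB (fun i => forceB (mk (rt bs i)) fun m => allB (fun j => cntB (fun y => band (Nat.beq (lab bs y) j)
    (forceB (Nat.land m (mk y)) fun m' => cntB (fun i => tb m' i) N s)) M (B i j)) n) n

theorem isz_eq (mk : ℕ → ℕ) (x y s : ℕ) : (Nat.beq (isz (Fm N mk x) (Fm N mk y)) s) =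
    cntB (fun i => tb (Nat.land (mk x) (mk y)) i) N s := by
  have h1 : isz (Fm N mk x) (Fm N mk y) =
      ((Finset.range N).filter (fun i => tb (Nat.land (mk x) (mk y)) i = true)).card := by
    rw [← card_fin]
    unfold isz Fm
    congr 1
    ext i
    simp only [Finset.mem_filter, Finset.mem_univ, true_and, tb_eq]
    have h2 : Nat.land (mk x) (mk y) = mk x &&& mk y := rfl
    rw [h2, Nat.testBit_and, Bool.and_eq_true]
  rw [Bool.eq_iff_iff, cntB_iff, ← h1]
  exact ⟨Nat.eq_of_beq_eq_true, fun h => by rw [h]; exact Nat.beq_refl _⟩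

/-- **Degrees from tables.** -/
theorem deg_of_tables {n s : ℕ} {mk : ℕ → ℕ} {GT : Set (Perm (Fin N))} (hG : G = Subgroup.closure GT)
    {PQ : List (ℕ × ℕ)} (hGT : ∀ g ∈ GT, ∃ pq ∈ PQ, ∀ i : Fin N, ((g i : Fin N) : ℕ) = lk pq.1 i)
    (hin : ∀ pq ∈ PQ, InG G pq.1) {bs : List ℕ} {KW : List (List (ℕ × ℕ))} (hKW : ∀ w ∈ KW, ∀ pq ∈ w, pq ∈ PQ)
    {pr : ℕ → ℕ} {kk : ℕ → ℕ} {B : ℕ → ℕ → ℕ} (hM : 0 < M) (hlab0 : lab bs 0 = 0)
    (h1 : allL (chkPQ N M mk) PQ = true) (h2 : chkInj M N mk = true) (h3 : allL (chkW M bs) KW = true)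
    (h4 : chkF M bs PQ KW pr = true) (h5 : chkK M n bs kk = true) (h6 : chkB N M n s mk bs B = true)
    (hn : 0 < n) (a : Fin n → ℚ) (t : ℚ) (L : Fin n → Fin n → ℚ) (d : ℕ)
    (ha : a ⟨0, hn⟩ = 1) (hBa : ∀ i : Fin n, ∑ j : Fin n, (B i j : ℚ) * a j = t * a i)
    (hL : ∀ i j : Fin n, ∑ l : Fin n, L i l * ((B l j : ℚ) - if l = j then t else 0) =
      (if i = j then 1 else 0) - if j = ⟨0, hn⟩ then a i else 0)
    (hd : (d : ℚ) * ∑ j : Fin n, (kk j : ℚ) * (a j * a j) = M) :
    ∃ χ : IrrCharacter G, charDegree (χ : G → ℂ) = d := by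
  classical
  set F := Fm N mk with hF
  have hinj := inj_of_chk (N := N) h2
  have hPQ : ∀ pq ∈ PQ, Cor G F M (lk pq.2) := by
    intro pq hpq
    obtain ⟨g, hg, hgi⟩ := hin pq hpq
    exact ⟨⟨g, hg⟩, cor_of_chkPQ ((allL_iff _ _).1 h1 pq hpq) ⟨g, hg⟩ hgi⟩
  have hcl : ∀ g : G, ∀ x < M, ∃ y < M, g • F x = F y := closed hG (by
    intro g hgT hg x hx
    obtain ⟨pq, hpq, hgi⟩ := hGT g hgT
    obtain ⟨h7, h8⟩ := cor_of_chkPQ ((allL_iff _ _).1 h1 pq hpq) (⟨g, hg⟩ : G) hgi x hx
    exact ⟨_, h7, h8⟩) hinj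
  have hword : ∀ w ∈ KW, Cor G F M (ev (snds w)) := by
    intro w hw
    refine Cor.ev fun Q hQ => ?_
    obtain ⟨P, hP⟩ := mem_snds hQ
    exact hPQ _ (hKW w hw _ hP)
  let K := KK hcl hinj (lab bs)
  have hwK : ∀ w ∈ KW, ∃ g ∈ K, ∀ x < M, ev (snds w) x < M ∧ g • F x = F (ev (snds w) x) := by
    intro w hw
    obtain ⟨g, hg⟩ := hword w hw
    have h7 := (allL_iff _ _).1 h3 w hw
    unfold chkW at h7
    rw [band_eq_true] at h7
    have h8 : ev (snds w) 0 = 0 := Nat.eq_of_beq_eq_true h7.1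
    refine ⟨g, ⟨?_, ?_⟩, hg⟩
    · have h9 := (hg 0 hM).2
      rwa [h8] at h9
    · intro x hx y hy hxy
      have h9 := hg x hx
      rw [h9.2] at hxy
      rw [← hinj _ h9.1 _ hy hxy]
      exact Nat.eq_of_beq_eq_true ((allB_iff _ _).1 h7.2 x hx)
  unfold chkF at h4
  rw [allB_iff] at h4
  have hreachG : ∀ x, x < M → ∃ g : G, g • F 0 = F x := by
    intro x
    induction x using Nat.strong_induction_on with
    | _ x ih =>
      intro hx
      have h7 := h4 x hx
      rw [bor_iff, forceB_eq, band_eq_true, bor_iff, band_eq_true, band_eq_true, anyB_iff, anyB_iff] at h7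
      rcases h7 with h7 | ⟨h7, h8⟩
      · rw [Nat.eq_of_beq_eq_true h7]
        exact ⟨1, one_smul _ _⟩
      · have h9 : pr x < x := Nat.blt_eq ▸ h7
        obtain ⟨g, hg⟩ := ih _ h9 (h9.trans hx)
        rcases h8 with ⟨-, w, hw, h8⟩ | ⟨-, pq, hpq, h8⟩
        · obtain ⟨k, -, hk⟩ := hwK w hw
          refine ⟨k * g, ?_⟩
          rw [mul_smul, hg, (hk _ (h9.trans hx)).2, Nat.eq_of_beq_eq_true h8]
        · obtain ⟨k, hk⟩ := hPQ pq hpq
          refine ⟨k * g, ?_⟩
          rw [mul_smul, hg, (hk _ (h9.trans hx)).2, Nat.eq_of_beq_eq_true h8]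
  have hreachK : ∀ x, x < M → ∃ g ∈ K, g • F (rt bs (lab bs x)) = F x := by
    intro x
    induction x using Nat.strong_induction_on with
    | _ x ih =>
      intro hx
      have h7 := h4 x hx
      rw [bor_iff, forceB_eq, band_eq_true, bor_iff, band_eq_true, band_eq_true, anyB_iff, anyB_iff] at h7
      rcases h7 with h7 | ⟨h7, h8⟩
      · rw [Nat.eq_of_beq_eq_true h7, hlab0]
        exact ⟨1, K.one_mem, one_smul _ _⟩
      · have h9 : pr x < x := Nat.blt_eq ▸ h7
        rcases h8 with ⟨h10, w, hw, h8⟩ | ⟨h10, -⟩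
        · obtain ⟨g, hg, hgx⟩ := ih _ h9 (h9.trans hx)
          obtain ⟨k, hkK, hk⟩ := hwK w hw
          refine ⟨k * g, K.mul_mem hkK hg, ?_⟩
          rw [← Nat.eq_of_beq_eq_true h10, mul_smul, hgx, (hk _ (h9.trans hx)).2, Nat.eq_of_beq_eq_true h8]
        · rw [Nat.eq_of_beq_eq_true h10]
          exact ⟨1, K.one_mem, one_smul _ _⟩
  unfold chkK at h5
  rw [band_eq_true, band_eq_true, allB_iff, allB_iff, allB_iff] at h5
  obtain ⟨h5a, h5b, h5c⟩ := h5
  have hlt : ∀ x < M, lab bs x < n := fun x hx => Nat.blt_eq ▸ h5a x hx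
  have hrt : ∀ j < n, rt bs j < M := fun j hj => Nat.blt_eq ▸ h5b j hj
  refine Idx.deg_of_index (G := G) (Y := Y N) (M := M) (n := n) (fun x => F x) ?_ ⟨0, hM⟩ ?_ ?_ K ?_
    (fun x => ⟨lab bs x, hlt x x.2⟩) (fun j => ⟨rt bs j, hrt j j.2⟩) ?_ ?_
    (fun f f' => Nat.beq (isz f f') s) ?_ (fun i j => B i j) ?_ (fun j => kk j) ?_ ⟨0, hn⟩ ?_ a t L d ha hBa hL hd
  · intro x y hxy
    exact Fin.ext (hinj x x.2 y y.2 hxy)
  · intro g x
    obtain ⟨y, hy, h⟩ := hcl g x x.2
    exact ⟨⟨y, hy⟩, h⟩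
  · intro x
    exact hreachG x x.2
  · intro g hg
    exact hg.1
  · intro g hg x y hxy
    exact Fin.ext (hg.2 x x.2 y y.2 hxy)
  · intro x
    exact hreachK x x.2
  · intro g f f'
    show Nat.beq (isz (g • f) (g • f')) s = Nat.beq (isz f f') s
    rw [isz_smul]
  · intro i j
    unfold chkB at h6
    rw [allB_iff] at h6
    have h7 := h6 i i.2
    rw [forceB_eq, allB_iff] at h7
    have h8 := (cntB_iff _ _ _).1 (h7 j j.2)
    rw [← card_fin] at h8
    rw [← h8]
    congr 1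
    ext y
    simp only [Finset.mem_filter, Finset.mem_univ, true_and]
    rw [band_eq_true, forceB_eq, ← isz_eq]
    constructor
    · rintro ⟨h9, h10⟩
      refine ⟨?_, h9⟩
      have h11 : lab bs y = j := congrArg Fin.val h10
      rw [h11]
      exact Nat.beq_refl _
    · rintro ⟨h9, h10⟩
      exact ⟨h10, Fin.ext (Nat.eq_of_beq_eq_true h9)⟩
  · intro j
    have h8 := (cntB_iff _ _ _).1 (h5c j j.2)
    rw [← card_fin] at h8
    rw [← h8]
    congr 1
    ext y
    simp only [Finset.mem_filter, Finset.mem_univ, true_and]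
    constructor
    · intro h
      have h11 : lab bs y = j := congrArg Fin.val h
      rw [h11]
      exact Nat.beq_refl _
    · intro h
      exact Fin.ext (Nat.eq_of_beq_eq_true h)
  · exact Fin.ext hlab0

end Cfsg.Agent.H678.DG.Blk
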