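import Cfsg.Agent.H678.DG.Pts
import Cfsg.Agent.SporadicB.HePerm.Simple
import Cfsg.Agent.SporadicB.HePerm.Final
import Cfsg.Agent.SporadicB.HeUpper

/-!
# The Held group has irreducible characters of degrees 680 and 1275 (helper678)

The action on 2058 points; the relation is the suborbit of length 425.
-/

set_option autoImplicit false
set_option maxRecDepth 100000

namespace Cfsg.Agent.H678.DG.HeDegA

open Cfsg Equiv Cfsg.Spor.He Cfsg.Agent.SporadicB.HePerm Cfsg.Agent.H678.DG.Blk Cfsg.Agent.H678.DG.Pts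

theorem card_he : Nat.card Cfsg.Spor.He = 4030387200 := by
  obtain ⟨h1, h2⟩ := Cfsg.Agent.SporadicB.HeUpper.card_he_le
  exact (injective_of_card_le h2).2.1

theorem pos_ord (i : Fin 2058) : look Data.kOrd i < 2058 ∧ look Data.kPos (look Data.kOrd i) = i := by
  let f : Fin 2058 → Fin 2058 := fun i => ⟨look Data.kPos i, pos_lt i⟩
  have hf : Function.Injective f := by
    intro i j h
    have h1 : look Data.kPos i = look Data.kPos j := congrArg Fin.val h
    apply Fin.ext
    rw [← ord_pos i, ← ord_pos j, h1]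
  obtain ⟨j, hj⟩ := (Finite.surjective_of_injective hf) i
  have h1 : look Data.kPos j = i := congrArg Fin.val hj
  have h2 : look Data.kOrd i = j := by rw [← h1, ord_pos]
  exact ⟨by rw [h2]; exact j.2, by rw [h2, h1]⟩

/-- the renumbering of the points -/
def psi : Fin 2058 ≃ Fin 2058 where
  toFun i := ⟨look Data.kOrd i, (pos_ord i).1⟩
  invFun i := ⟨look Data.kPos i, pos_lt i⟩
  left_inv i := Fin.ext (pos_ord i).2
  right_inv i := Fin.ext (ord_pos i)

/-- the representation in the new numbering -/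
noncomputable def rep : Cfsg.Spor.He →* Perm (Fin 2058) :=
  (MulAut.conj (psi : Perm (Fin 2058))⁻¹).toMonoidHom.comp phi

/-- the action of a generator in the new numbering -/
def A (x : Gen) (i : ℕ) : ℕ := look Data.kPos (look (tab x) (look Data.kOrd i))

theorem rep_of (x : Gen) (i : Fin 2058) : ((rep (PresentedGroup.of x) i : Fin 2058) : ℕ) = A x i := by
  have h : rep (PresentedGroup.of x) i = psi.symm (pm x (psi i)) := by
    unfold rep
    rw [← phi_of]
    rfl
  rw [h]
  rfl

/-- the roots -/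
def bs : List ℕ := [1, 1361, 1786, 1922]

/-- the parents -/
def pr (i : ℕ) : ℕ := look Data.kPar i

/-- sizes -/
def kk (j : ℕ) : ℕ := [1, 1360, 425, 136, 136].getD j 0

/-- the words mapping 0 to the roots -/
def gam (j : ℕ) : List Gen := [[], [.b], [.e, .d, .a, .b, .c, .d, .c, .b], [.g, .f, .d, .c, .d, .c, .b],
  [.g, .c, .d, .b, .c, .d, .f, .e, .d, .c, .b]].getD j []

/-- the collapsed matrix -/
def B (i j : ℕ) : ℕ := ([[0, 0, 425, 0, 0], [0, 285, 80, 30, 30], [1, 256, 136, 16, 16], [0, 300, 50, 75, 0],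
  [0, 300, 50, 0, 75]].getD i []).getD j 0

theorem c1 : allL (Pts.chkW A 2058 bs) wordsK = true := by decide +kernel
theorem c2 : Pts.chkF A 2058 bs wordsK pr = true := by decide +kernel
theorem c3 : chkK 2058 5 bs kk = true := by decide +kernel
theorem c4 : Pts.chkB A 2058 5 2 bs gam B = true := by decide +kernel

theorem hdiv : ∀ J : Finset (Fin 5), 2 ∈ J → (∑ j ∈ J, kk j) ∣ 1958400 → J = {2} := by decide +kernel

instance : Finite Cfsg.Spor.He := Nat.finite_of_card_ne_zero (by rw [card_he]; norm_num)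

/-- The degree for an eigenvalue. -/
theorem deg (a : Fin 5 → ℚ) (t : ℚ) (L : Fin 5 → Fin 5 → ℚ) (d : ℕ)
    (ha : a 0 = 1) (hBa : ∀ i : Fin 5, ∑ j : Fin 5, (B i j : ℚ) * a j = t * a i)
    (hL : ∀ i j : Fin 5, ∑ l : Fin 5, L i l * ((B l j : ℚ) - if l = j then t else 0) =
      (if i = j then 1 else 0) - if j = 0 then a i else 0)
    (hd : (d : ℚ) * ∑ j : Fin 5, (kk j : ℚ) * (a j * a j) = (2058 : ℕ)) :
    ∃ χ : IrrCharacter Cfsg.Spor.He, charDegree (χ : Cfsg.Spor.He → ℂ) = d :=
  deg_of_pts rep (fun x => PresentedGroup.of x) A rep_of (KW := wordsK) (bs := bs) (pr := pr) (kk := kk) (γ := gam)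
    (c₁ := 2) (B := B) (st := 1958400) (by rw [card_he]) (by norm_num) (by norm_num) (by decide +kernel) (by norm_num) (by norm_num)
    (by decide +kernel) c1 c2 c3 c4 hdiv a t L d ha hBa hL hd

theorem deg_680 : ∃ χ : IrrCharacter Cfsg.Spor.He, charDegree (χ : Cfsg.Spor.He → ℂ) = 680 :=
  deg ![1, -13/680, 1/85, 5/68, 5/68] 5 ![![0, 0, 0, 0, 0], ![-53/27200, -1/200, 3/320, 0, 0], ![1/425, 0, 0, 0, 0],
    ![127/19040, 3/140, -9/224, 1/70, 0], ![499/95200, 41/700, -53/1120, -1/70, 0]] 680 (by decide +kernel)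
    (by decide +kernel) (by decide +kernel) (by decide +kernel)

theorem deg_1275 : ∃ χ : IrrCharacter Cfsg.Spor.He, charDegree (χ : Cfsg.Spor.He → ℂ) = 1275 :=
  deg ![1, 1/85, -9/425, -1/34, -1/34] (-9) ![![0, 0, 0, 0, 0], ![-307/126480, -1/186, 5/496, 0, 0],
    ![1/425, 0, 0, 0, 0], ![429/59024, 25/1302, -125/3472, 1/84, 0], ![907/88536, 29/434, -109/1736, -1/84, 0]] 1275
    (by decide +kernel) (by decide +kernel) (by decide +kernel) (by decide +kernel)

end Cfsg.Agent.H678.DG.HeDegA
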