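import Cfsg.Agent.H678.DG.Basic
import Cfsg.Agent.H678.DG.McLDeg

/-!
# Degree graph facts for the McLaughlin group (helper678)

Degrees 3520, 4500, 5103.
-/

set_option autoImplicit false

namespace Cfsg.Agent.H678.DG.McL

open Cfsg Cfsg.Agent.H904.McLCent Cfsg.Agent.McLType.X275 Cfsg.Agent.McLType.Gens

universe u

/-- The degree graph of `McL`. -/
theorem facts_mcl {S : Type u} [Group S] (h : Spor.IsoMcL S) : Facts S := by
  obtain ⟨θ, R⟩ := exists_rep h
  have hc := McLDeg.card_K0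
  let f : S ≃* K0 := (MonoidHom.ofInjective R.inj).trans (MulEquiv.subgroupCongr R.range)
  refine Facts.of_equiv f ?_
  refine Facts.of_list (P := [7, 3, 11, 2, 5]) (D := [3520, 4500, 5103]) ?_ (by decide)
    (mem_of_card (f := fun _ => 7) ?_ ?_) ?_ (by decide +kernel)
  · intro p hp; fin_cases hp <;> norm_num
  · rw [hc]; decide +kernel
  · intro p hp; fin_cases hp <;> norm_num
  · intro m hm
    simp only [List.mem_cons, List.not_mem_nil, or_false] at hm
    rcases hm with rfl | rfl | rfl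
    · obtain ⟨χ, hχ⟩ := McLDeg.deg_3520
      exact ⟨χ, by rw [hχ]⟩
    · obtain ⟨χ, hχ⟩ := McLDeg.deg_4500
      exact ⟨χ, by rw [hχ]⟩
    · obtain ⟨χ, hχ⟩ := McLDeg.deg_5103
      exact ⟨χ, by rw [hχ]⟩

end Cfsg.Agent.H678.DG.McL
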