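import Cfsg.Agent.H678.DG.Blk
import Cfsg.Agent.H678.DG.JTwoData
import Cfsg.Agent.SporadicA.J2Hundred

/-!
# The Hall-Janko group has irreducible characters of degrees 36, 90, 160 (helper678)

The action on the 315 subsets of size 20 (fixed points of the involutions of class 2A); the relation is "the intersection
has size 12".
-/

set_option autoImplicit false
set_option maxRecDepth 100000

namespace Cfsg.Agent.H678.DG.JTwoDeg

open Cfsg Equiv Cfsg.Agent.SporadicA.PermTab Cfsg.Agent.SporadicA.J2Data Cfsg.Agent.SporadicA.J2Hundred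
open Cfsg.Agent.H678.DG.JTwoData Cfsg.Agent.H678.DG.Blk

/-- the mask of the subset -/
def mk (x : ℕ) : ℕ := Nat.land (Nat.shiftRight SM (Nat.mul 100 x)) 1267650600228229401496703205375

/-- the tables -/
def PQ : List (ℕ × ℕ) := [(tA, qA), (tB, qB), (tC, qC), (tD, qD), (tE, qE)]

/-- the roots -/
def bs : List ℕ := [1, 33, 113, 273, 305]

/-- words of the stabiliser -/
def KW : List (List (ℕ × ℕ)) := [[(tA, qA)], [(tC, qC)], [(tE, qE)],
  [(tD, qD), (tC, qC), (tD, qD), (tE, qE), (tD, qD), (tC, qC), (tD, qD)],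
  [(tB, qB), (tA, qA), (tB, qB), (tC, qC), (tD, qD), (tC, qC), (tB, qB), (tA, qA), (tB, qB)]]

/-- sizes -/
def kk (j : ℕ) : ℕ := [1, 32, 80, 160, 32, 10].getD j 0

/-- the collapsed matrix -/
def B (i j : ℕ) : ℕ := ([[0, 0, 0, 0, 0, 10], [0, 0, 0, 5, 5, 0], [0, 0, 1, 8, 0, 1], [0, 1, 4, 4, 1, 0],
  [0, 5, 0, 5, 0, 0], [1, 0, 8, 0, 0, 1]].getD i []).getD j 0

theorem c1 : allL (chkPQ 100 315 mk) PQ = true := by decide +kernel
theorem c2 : chkInj 315 100 mk = true := by decide +kernel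
theorem c3 : allL (chkW 315 bs) KW = true := by decide +kernel
theorem c4 : chkF 315 bs PQ KW (lk PR) = true := by decide +kernel
theorem c5 : chkK 315 6 bs kk = true := by decide +kernel
theorem c6 : chkB 100 315 6 12 mk bs B = true := by decide +kernel

theorem hGT : ∀ g ∈ gens, ∃ pq ∈ PQ, ∀ i : Fin 100, ((g i : Fin 100) : ℕ) = lk pq.1 i := by
  rintro g (rfl | rfl | rfl | rfl | rfl)
  · exact ⟨(tA, qA), by simp [PQ], fun i => mkPerm_val tA tA iA i⟩
  · exact ⟨(tB, qB), by simp [PQ], fun i => mkPerm_val tB tB iB i⟩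
  · exact ⟨(tC, qC), by simp [PQ], fun i => mkPerm_val tC tC iC i⟩
  · exact ⟨(tD, qD), by simp [PQ], fun i => mkPerm_val tD tD iD i⟩
  · exact ⟨(tE, qE), by simp [PQ], fun i => mkPerm_val tE tE iE i⟩

theorem hin : ∀ pq ∈ PQ, InG G pq.1 := by
  intro pq h
  simp only [PQ, List.mem_cons, List.not_mem_nil, or_false] at h
  rcases h with rfl | rfl | rfl | rfl | rfl
  exacts [inA, inB, inC, inD, inE]

theorem hKW : ∀ w ∈ KW, ∀ pq ∈ w, pq ∈ PQ := by
  intro w hw pq hpq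
  simp only [KW, List.mem_cons, List.not_mem_nil, or_false] at hw
  unfold PQ
  rcases hw with rfl | rfl | rfl | rfl | rfl <;>
  · simp only [List.mem_cons, List.not_mem_nil, or_false] at hpq ⊢
    tauto

/-- The degree for an eigenvalue. -/
theorem deg (a : Fin 6 → ℚ) (t : ℚ) (L : Fin 6 → Fin 6 → ℚ) (d : ℕ)
    (ha : a 0 = 1) (hBa : ∀ i : Fin 6, ∑ j : Fin 6, (B i j : ℚ) * a j = t * a i)
    (hL : ∀ i j : Fin 6, ∑ l : Fin 6, L i l * ((B l j : ℚ) - if l = j then t else 0) =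
      (if i = j then 1 else 0) - if j = 0 then a i else 0)
    (hd : (d : ℚ) * ∑ j : Fin 6, (kk j : ℚ) * (a j * a j) = (315 : ℕ)) :
    ∃ χ : IrrCharacter G, charDegree (χ : G → ℂ) = d :=
  deg_of_tables (s := 12) (rfl : G = Subgroup.closure gens) hGT hin hKW (by norm_num) rfl c1 c2 c3 c4 c5 c6 (by norm_num) a t
    L d ha hBa hL hd

theorem deg_90 : ∃ χ : IrrCharacter G, charDegree (χ : G → ℂ) = 90 :=
  deg ![1, 1/8, -1/20, -1/20, 1/8, 3/10] 3 ![![0, 0, 0, 0, 0, 0], ![1/24, 7/24, -5/12, -5/24, 5/12, 0],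
    ![-1/60, -1/6, 1/6, 1/3, -1/6, 0], ![-1/60, -1/24, 1/6, 1/12, -1/24, 0], ![1/24, 5/12, -5/12, -5/24, 7/24, 0],
    ![1/10, 0, 0, 0, 0, 0]] 90 (by decide +kernel) (by decide +kernel) (by decide +kernel) (by decide +kernel)

end Cfsg.Agent.H678.DG.JTwoDeg
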