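import Cfsg.Agent.H678.DG.CoverR3
import Cfsg.Agent.H52.GowFi23
import Cfsg.Agent.H672.SporIM.RankRows

/-!
# The degrees 30888, 106743 of `Fi₂₃` (rank 3 on 137632 points) (helper678)
-/

set_option autoImplicit false
set_option maxRecDepth 100000

namespace Cfsg.Agent.H678.DG.FiPts

open Cfsg MulAction Cfsg.Agent.H672.SporIM
open Cfsg.Agent.Lib.PermNet Cfsg.Agent.Lib.PermNetOrbit Cfsg.Agent.Fischer.Fi24RepLib
  Cfsg.Agent.Fischer.Fi24RepDef Cfsg.Agent.Fischer.Fi24RepOrbData Cfsg.Agent.Fischer.Fi24RepOrb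
open Cfsg.Agent.Fischer.Fi24Rep (rho rho_word word nws nws_ok)
open Cfsg.Agent.Fischer.Fi24Class (gen img emb emb_ne_k comm_l gen_sq exists_fi23_hom)
open Cfsg.Agent.H52.GowFi23Chk Cfsg.Agent.H52.GowFi23
open Cfsg.Spor (Fi24)

universe u

/-- The factors of the order of the point stabilizer. -/
def Ls : List (ℕ × ℕ) := [(2, 13), (3, 13), (5, 2), (7, 1), (13, 1)]

theorem chk : ((divList Ls).all fun d => Nat.blt 137631 d || !Nat.beq (29713078886400 % (137631 - d)) 0 ||
    Nat.beq d 28431 || Nat.beq d 109200) = true := by decide +kernel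

theorem subdeg {k m : ℕ} (h : k + m = 137631) (hk : k ∣ 29713078886400) (hm : m ∣ 29713078886400) :
    (k = 28431 ∧ m = 109200) ∨ (k = 109200 ∧ m = 28431) := by
  have h1 : k ∈ divList Ls := mem_divList (by simp only [Ls, List.forall_mem_cons]; norm_num) (by
    have : (Ls.map fun x => x.1 ^ x.2).prod = 29713078886400 := by decide +kernel
    rw [this]; exact hk)
  have h2 := List.all_eq_true.1 chk k h1
  simp only [Bool.or_eq_true, Nat.blt_eq, Bool.not_eq_true', Nat.beq_eq] at h2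
  rcases h2 with ((h2 | h2) | h2) | h2
  · omega
  · have h3 : 137631 - k = m := by omega
    rw [h3, Nat.mod_eq_zero_of_dvd hm] at h2
    exact absurd h2 (by decide)
  · left; omega
  · right; omega

theorem exists_R3 [Finite Spor.Fi23] : ∃ (X : Type) (_ : MulAction Spor.Fi23 X) (k m : ℕ) (R : X → X → Prop),
    H690.Spor.RankThree.R3 Spor.Fi23 X R k m ∧ k + m = 137631 ∧ k ∣ 29713078886400 ∧ m ∣ 29713078886400 := by
  have hc := Cfsg.Agent.NotCT.Orders.fi23 (K := Spor.Fi23) ⟨MulEquiv.refl _⟩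
  obtain ⟨hidx, hst, -⟩ := SporRec.Fi24Index.index_and_suborbits
  obtain ⟨φ, hφ⟩ := exists_fi23_hom (Fischer.Fi24Spider.spider_rel hst)
  have hφH : ∀ f, φ f ∈ H := by
    have hr : φ.range ≤ H := by
      rw [MonoidHom.range_eq_map, ← Cfsg.Agent.SporRec.Fi23Rel.closure_gen, MonoidHom.map_closure,
        Subgroup.closure_le]
      rintro _ ⟨_, ⟨x, rfl⟩, rfl⟩
      rw [SetLike.mem_coe, hφ]
      exact mul_mem (mem_H_gen (emb_ne_k x)) (mem_H_gen (by decide))
    exact fun f => hr ⟨f, rfl⟩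
  refine exists_R3_pairs rho φ (gen .l) H hφH l_mem (gen_sq _) comm_H (hcov φ hφ hφH)
    {p | UR.testBit p = true} 307872 ?_ ?_ (n := 137631) ?_ (by norm_num) (by decide) (by rw [hc]) (by norm_num)
    ![307872, 32768, 32833] ?_ ?_
  · rw [← orbR]
  · rw [rho_l]; norm_num
  · rw [ncard_R]
  · intro i
    fin_cases i
    · exact (tb_eq UR 307872).symm.trans tbR
    · exact (tb_eq UR 32768).symm.trans tb1
    · exact (tb_eq UR 32833).symm.trans tb2
  · intro p hp
    obtain ⟨i, k, hk, h1⟩ := cover p hp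
    refine ⟨i, k, K₁_le hk, ?_, h1⟩
    rw [rho_l]
    rcases K₁_fix k hk with h | h
    · exact Or.inl h.1
    · exact Or.inr h.1

theorem im_fi23 {K : Type u} [Group K] (h : Spor.IsoFi23 K) : HasDeg K 106743 := by
  have hc := Cfsg.Agent.NotCT.Orders.fi23 (K := Spor.Fi23) ⟨MulEquiv.refl _⟩
  have : Finite Spor.Fi23 := Nat.finite_of_card_ne_zero (by rw [hc]; norm_num)
  obtain ⟨e⟩ := h
  obtain ⟨X, i, k, m, R, hR, h1, h2, h3⟩ := exists_R3
  obtain ⟨x, hx, hd⟩ : ∃ x ∈ [(106743, 30888)], HasDeg Spor.Fi23 x.1 ∧ HasDeg Spor.Fi23 x.2 := by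
    rcases subdeg h1 h2 h3 with ⟨rfl, rfl⟩ | ⟨rfl, rfl⟩
    · exact degrees_of_R3 hR hc rfl (P := 427301280806400) (by norm_num) [(2, 4), (3, 4), (5, 1), (13, 1)]
        [2, 7, 11, 17, 23] (by simp only [List.forall_mem_cons]; norm_num)
        (by simp only [List.forall_mem_cons]; norm_num) (by decide) (by norm_num) (Or.inl (by decide)) [(106743, 30888)]
        (by decide +kernel)
    · exact degrees_of_R3 hR hc rfl (P := 427301280806400) (by norm_num) [(2, 4), (3, 4), (5, 1), (13, 1)]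
        [2, 7, 11, 17, 23] (by simp only [List.forall_mem_cons]; norm_num)
        (by simp only [List.forall_mem_cons]; norm_num) (by decide) (by norm_num) (Or.inl (by decide)) [(106743, 30888)]
        (by decide +kernel)
  rw [List.mem_singleton] at hx
  subst hx
  exact hd.1.of_equiv e

end Cfsg.Agent.H678.DG.FiPts
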