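import Cfsg.Agent.H678.DG.Basic
import Cfsg.Agent.H678.DG.JTwoDeg
import Cfsg.Agent.H672.SporIM.RankRows
import Cfsg.Agent.J2.HundredGens
import Cfsg.Agent.S1619

/-!
# Degree graph facts for the Suzuki group and the Hall-Janko group (helper678)

* `facts_suz` : degrees 1001, 780.
* `facts_j2` : degrees 63, 90.
-/

set_option autoImplicit false

namespace Cfsg.Agent.H678.DG.Rows

open Cfsg Cfsg.Agent.H672.SporIM

universe u

theorem im_of_hasDeg {S : Type*} [Group S] {d : ℕ} (h : HasDeg S d) : H671.H5.IM d S := by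
  obtain ⟨χ, hχ⟩ := h
  exact ⟨χ, by rw [hχ]⟩

/-- The degree graph of `Suz`. -/
theorem facts_suz {S : Type u} [Group S] (h : Spor.IsoSuz S) : Facts S := by
  have hc := Cfsg.Agent.NotCT.Orders.suz h
  have : Finite S := Nat.finite_of_card_ne_zero (by rw [hc]; norm_num)
  obtain ⟨h1, h2⟩ := suz h
  refine Facts.of_list (P := [2, 3, 5, 7, 11, 13]) (D := [1001, 780]) ?_ (by decide)
    (mem_of_card (f := fun _ => 13) ?_ ?_) ?_ (by decide +kernel)
  · intro p hp; fin_cases hp <;> norm_num
  · rw [hc]; decide +kernel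
  · intro p hp; fin_cases hp <;> norm_num
  · intro m hm
    simp only [List.mem_cons, List.not_mem_nil, or_false] at hm
    rcases hm with rfl | rfl
    · exact im_of_hasDeg h1
    · exact im_of_hasDeg h2

/-- The degree graph of `J2`. -/
theorem facts_j2 {S : Type u} [Group S] (h : Spor.IsoJ2 S) : Facts S := by
  have hc := Cfsg.Agent.NotCT.Orders.j2 h
  have : Finite S := Nat.finite_of_card_ne_zero (by rw [hc]; norm_num)
  obtain ⟨h1, -⟩ := j2 h
  obtain ⟨f⟩ := J2.HundredGens.J2_iso Cfsg.Agent.S1619.result.2.2.2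
  obtain ⟨e⟩ := h
  have h2 : HasDeg S 90 := HasDeg.of_equiv (e.trans f) JTwoDeg.deg_90
  refine Facts.of_list (P := [7, 2, 5, 3]) (D := [63, 90]) ?_ (by decide)
    (mem_of_card (f := fun _ => 7) ?_ ?_) ?_ (by decide +kernel)
  · intro p hp; fin_cases hp <;> norm_num
  · rw [hc]; decide +kernel
  · intro p hp; fin_cases hp <;> norm_num
  · intro m hm
    simp only [List.mem_cons, List.not_mem_nil, or_false] at hm
    rcases hm with rfl | rfl
    · exact im_of_hasDeg h1
    · exact im_of_hasDeg h2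

end Cfsg.Agent.H678.DG.Rows
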