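import Mathlib
import Cfsg.Prelude.Def_Spor_He
import Cfsg.Agent.SporadicB.HePerm.Rep
import Cfsg.Agent.H678.DG.HeData

/-!
# The permutation representation of the presented Held group on 8330 points (helper678)
-/

set_option autoImplicit false
-- the kernel computations below run one after the other: this keeps the memory small
set_option Elab.async false

namespace Cfsg.Agent.H678.DG.HeRep

open Cfsg.Spor Cfsg.Spor.He
open Cfsg.Agent.SporadicB.HePerm (allBelow of_allBelow gens mem_gens powWord powWord_prod)

/-- entry `i` of a table of 14-bit entries -/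
def look (t i : ℕ) : ℕ := Nat.land (Nat.shiftRight t (Nat.mul 14 i)) 16383

/-- image table of a generator -/
def tab : Gen → ℕ
  | .a => HeData.qa
  | .b => HeData.qb
  | .c => HeData.qc
  | .d => HeData.qd
  | .e => HeData.qe
  | .f => HeData.qf
  | .g => HeData.qg

/-- action of a word on a point, the last letter acts first -/
def act : List Gen → ℕ → ℕ
  | [], i => i
  | x :: w, i => look (tab x) (act w i)

theorem perm_check_a : allBelow 8330 (fun i =>
    and (Nat.blt (look (tab .a) i) 8330) (Nat.beq (look (tab .a) (look (tab .a) i)) i)) = true := by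
  decide +kernel

theorem perm_check_b : allBelow 8330 (fun i =>
    and (Nat.blt (look (tab .b) i) 8330) (Nat.beq (look (tab .b) (look (tab .b) i)) i)) = true := by
  decide +kernel

theorem perm_check_c : allBelow 8330 (fun i =>
    and (Nat.blt (look (tab .c) i) 8330) (Nat.beq (look (tab .c) (look (tab .c) i)) i)) = true := by
  decide +kernel

theorem perm_check_d : allBelow 8330 (fun i =>
    and (Nat.blt (look (tab .d) i) 8330) (Nat.beq (look (tab .d) (look (tab .d) i)) i)) = true := by
  decide +kernel

theorem perm_check_e : allBelow 8330 (fun i =>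
    and (Nat.blt (look (tab .e) i) 8330) (Nat.beq (look (tab .e) (look (tab .e) i)) i)) = true := by
  decide +kernel

theorem perm_check_f : allBelow 8330 (fun i =>
    and (Nat.blt (look (tab .f) i) 8330) (Nat.beq (look (tab .f) (look (tab .f) i)) i)) = true := by
  decide +kernel

theorem perm_check_g : allBelow 8330 (fun i =>
    and (Nat.blt (look (tab .g) i) 8330) (Nat.beq (look (tab .g) (look (tab .g) i)) i)) = true := by
  decide +kernel

theorem perm_check (x : Gen) : allBelow 8330 (fun i =>
    and (Nat.blt (look (tab x) i) 8330) (Nat.beq (look (tab x) (look (tab x) i)) i)) = true := by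
  cases x
  · exact perm_check_a
  · exact perm_check_b
  · exact perm_check_c
  · exact perm_check_d
  · exact perm_check_e
  · exact perm_check_f
  · exact perm_check_g

theorem look_lt (x : Gen) (i : ℕ) (hi : i < 8330) : look (tab x) i < 8330 := by
  have h2 := of_allBelow (perm_check x) i hi
  rw [Bool.and_eq_true] at h2
  exact Nat.le_of_ble_eq_true h2.1

theorem look_look (x : Gen) (i : ℕ) (hi : i < 8330) : look (tab x) (look (tab x) i) = i := by
  have h2 := of_allBelow (perm_check x) i hi
  rw [Bool.and_eq_true] at h2
  exact Nat.eq_of_beq_eq_true h2.2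

/-- the permutation of the 8330 points attached to a generator -/
def pm (x : Gen) : Equiv.Perm (Fin 8330) where
  toFun i := ⟨look (tab x) i, look_lt x i i.2⟩
  invFun i := ⟨look (tab x) i, look_lt x i i.2⟩
  left_inv i := Fin.ext (look_look x i i.2)
  right_inv i := Fin.ext (look_look x i i.2)

theorem pm_apply (x : Gen) (i : Fin 8330) : ((pm x i : Fin 8330) : ℕ) = look (tab x) i := rfl

theorem prod_apply (w : List Gen) (i : Fin 8330) : (((w.map pm).prod i : Fin 8330) : ℕ) = act w i := by
  induction w with
  | nil => rfl
  | cons x w ih =>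
    rw [List.map_cons, List.prod_cons, Equiv.Perm.mul_apply, pm_apply, ih]
    rfl

theorem prod_eq_one {w : List Gen} (h : ∀ i < 8330, act w i = i) : (w.map pm).prod = 1 := by
  apply Equiv.ext
  intro i
  apply Fin.ext
  rw [prod_apply, h i i.2]
  rfl

/-- check that a word acts trivially -/
def good (w : List Gen) : Bool := allBelow 8330 (fun i => Nat.beq (act w i) i)

theorem of_good {w : List Gen} (h : good w = true) : (w.map pm).prod = 1 :=
  prod_eq_one fun i hi => Nat.eq_of_beq_eq_true (of_allBelow h i hi)

/-- the number of a generator -/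
def idx : Gen → ℕ
  | .a => 0
  | .b => 1
  | .c => 2
  | .d => 3
  | .e => 4
  | .f => 5
  | .g => 6

theorem idx_inj {x y : Gen} (h : idx x = idx y) : x = y := by cases x <;> cases y <;> first | rfl | cases h

theorem pm_mul_self (x : Gen) : pm x * pm x = 1 := by
  apply Equiv.ext
  intro i
  apply Fin.ext
  exact look_look x i i.2

theorem pm_inv (x : Gen) : (pm x)⁻¹ = pm x := by
  rw [inv_eq_iff_mul_eq_one, pm_mul_self]

theorem extra_check1 : good (.e :: powWord [.f, .g] 2) = true := by decide +kernel

theorem extra_check2 : good (.e :: powWord [.a, .b, .c] 3) = true := by decide +kernel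

theorem extra_check3 : good (.a :: powWord [.c, .d] 5) = true := by decide +kernel

theorem extra_check4 : good (powWord [.c, .d, .f, .g] 4) = true := by decide +kernel

theorem rel1 : pm .e * (pm .f * pm .g) ^ 2 = 1 := by
  have h := of_good extra_check1
  rw [List.map_cons, List.prod_cons, powWord_prod] at h
  simpa using h

theorem rel2 : pm .e * (pm .a * pm .b * pm .c) ^ 3 = 1 := by
  have h := of_good extra_check2
  rw [List.map_cons, List.prod_cons, powWord_prod] at h
  simpa [mul_assoc] using h

theorem rel3 : pm .a * (pm .c * pm .d) ^ 5 = 1 := by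
  have h := of_good extra_check3
  rw [List.map_cons, List.prod_cons, powWord_prod] at h
  simpa using h

theorem rel4 : (pm .c * pm .d * pm .f * pm .g) ^ 4 = 1 := by
  have h := of_good extra_check4
  rw [powWord_prod] at h
  simpa [mul_assoc] using h

theorem of_pow {x y : Gen} {m : ℕ} (h : good (powWord [x, y] m) = true) : (pm x * pm y) ^ m = 1 := by
  have h3 := of_good h
  rw [powWord_prod] at h3
  simpa using h3

/-- the relation `(cd)^10 = 1` follows from `(cd)^5 = a` -/
theorem rel_cd : (pm .c * pm .d) ^ 10 = 1 := by
  have h : (pm .c * pm .d) ^ 5 = pm .a := by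
    have h1 := inv_eq_of_mul_eq_one_right rel3
    rw [pm_inv] at h1
    exact h1.symm
  rw [show 10 = 5 * 2 from rfl, pow_mul, h, pow_two, pm_mul_self]

theorem cox_ab : good (powWord [.a, .b] 4) = true := by decide +kernel

theorem cox_ac : good (powWord [.a, .c] 2) = true := by decide +kernel

theorem cox_ad : good (powWord [.a, .d] 2) = true := by decide +kernel

theorem cox_ae : good (powWord [.a, .e] 2) = true := by decide +kernel

theorem cox_af : good (powWord [.a, .f] 2) = true := by decide +kernel

theorem cox_ag : good (powWord [.a, .g] 2) = true := by decide +kernel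

theorem cox_bc : good (powWord [.b, .c] 3) = true := by decide +kernel

theorem cox_bd : good (powWord [.b, .d] 2) = true := by decide +kernel

theorem cox_be : good (powWord [.b, .e] 2) = true := by decide +kernel

theorem cox_bf : good (powWord [.b, .f] 2) = true := by decide +kernel

theorem cox_bg : good (powWord [.b, .g] 2) = true := by decide +kernel

theorem cox_ce : good (powWord [.c, .e] 2) = true := by decide +kernel

theorem cox_cf : good (powWord [.c, .f] 2) = true := by decide +kernel

theorem cox_cg : good (powWord [.c, .g] 2) = true := by decide +kernel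

theorem cox_de : good (powWord [.d, .e] 3) = true := by decide +kernel

theorem cox_df : good (powWord [.d, .f] 3) = true := by decide +kernel

theorem cox_dg : good (powWord [.d, .g] 3) = true := by decide +kernel

theorem cox_ef : good (powWord [.e, .f] 2) = true := by decide +kernel

theorem cox_eg : good (powWord [.e, .g] 2) = true := by decide +kernel

theorem cox_fg : good (powWord [.f, .g] 4) = true := by decide +kernel

theorem cox_rel_lt {x y : Gen} (hxy : idx x < idx y) : (pm x * pm y) ^ coxLabel edges x y = 1 := by
  match x, y, hxy with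
  | .a, .b, _ => exact of_pow cox_ab
  | .a, .c, _ => exact of_pow cox_ac
  | .a, .d, _ => exact of_pow cox_ad
  | .a, .e, _ => exact of_pow cox_ae
  | .a, .f, _ => exact of_pow cox_af
  | .a, .g, _ => exact of_pow cox_ag
  | .b, .c, _ => exact of_pow cox_bc
  | .b, .d, _ => exact of_pow cox_bd
  | .b, .e, _ => exact of_pow cox_be
  | .b, .f, _ => exact of_pow cox_bf
  | .b, .g, _ => exact of_pow cox_bg
  | .c, .d, _ => exact rel_cd
  | .c, .e, _ => exact of_pow cox_ce
  | .c, .f, _ => exact of_pow cox_cf
  | .c, .g, _ => exact of_pow cox_cg
  | .d, .e, _ => exact of_pow cox_de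
  | .d, .f, _ => exact of_pow cox_df
  | .d, .g, _ => exact of_pow cox_dg
  | .e, .f, _ => exact of_pow cox_ef
  | .e, .g, _ => exact of_pow cox_eg
  | .f, .g, _ => exact of_pow cox_fg

theorem coxLabel_comm (x y : Gen) : coxLabel edges x y = coxLabel edges y x := by
  cases x <;> cases y <;> rfl

theorem cox_rel (x y : Gen) : (pm x * pm y) ^ coxLabel edges x y = 1 := by
  rcases lt_trichotomy (idx x) (idx y) with h | h | h
  · exact cox_rel_lt h
  · have h1 := idx_inj h
    subst h1
    rw [pm_mul_self, one_pow]
  · have h1 := cox_rel_lt h
    rw [coxLabel_comm]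
    have h2 : pm x * pm y = (pm y * pm x)⁻¹ := by rw [mul_inv_rev, pm_inv, pm_inv]
    rw [h2, inv_pow, h1, inv_one]

/-- All relators of the presented Held group act trivially. -/
theorem lift_eq_one : ∀ r ∈ coxRelators edges ∪ {r | r ∈ extra}, FreeGroup.lift pm r = 1 := by
  rintro r (⟨x, -, y, -, rfl⟩ | hr)
  · rw [map_pow, map_mul, FreeGroup.lift_apply_of, FreeGroup.lift_apply_of]
    exact cox_rel x y
  · have hr' : r ∈ extra := hr
    have he : ∀ q : Equiv.Perm (Fin 8330), pm .e * q = 1 → pm .e * q⁻¹ = 1 := by
      intro q hq
      have : q = pm .e := by rw [← pm_inv Gen.e]; exact (inv_eq_of_mul_eq_one_right hq).symm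
      rw [this, mul_inv_cancel]
    have ha : ∀ q : Equiv.Perm (Fin 8330), pm .a * q = 1 → pm .a * q⁻¹ = 1 := by
      intro q hq
      have : q = pm .a := by rw [← pm_inv Gen.a]; exact (inv_eq_of_mul_eq_one_right hq).symm
      rw [this, mul_inv_cancel]
    simp only [extra, List.mem_cons, List.not_mem_nil, or_false] at hr'
    rcases hr' with rfl | rfl | rfl | rfl
    · simp only [map_mul, map_inv, map_pow, FreeGroup.lift_apply_of]
      exact he _ rel1
    · simp only [map_mul, map_inv, map_pow, FreeGroup.lift_apply_of]
      exact he _ rel2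
    · simp only [map_mul, map_inv, map_pow, FreeGroup.lift_apply_of]
      exact ha _ rel3
    · simp only [map_mul, map_pow, FreeGroup.lift_apply_of]
      exact rel4

/-- The permutation representation of the presented Held group on 8330 points. -/
noncomputable def phi : Cfsg.Spor.He →* Equiv.Perm (Fin 8330) := PresentedGroup.toGroup lift_eq_one

theorem phi_of (x : Gen) : phi (PresentedGroup.of x) = pm x := PresentedGroup.toGroup.of lift_eq_one

end Cfsg.Agent.H678.DG.HeRep
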