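import Cfsg.Agent.H678.DG.Pts
import Cfsg.Agent.H678.DG.HeRep
import Cfsg.Agent.H678.DG.HeDegA

/-!
# The Held group has an irreducible character of degree 1920 (helper678)

The action on 8330 points; the relation is the suborbit of length 4480.
-/

set_option autoImplicit false
set_option maxRecDepth 100000

namespace Cfsg.Agent.H678.DG.HeDegB

open Cfsg Equiv Cfsg.Spor.He Cfsg.Agent.H678.DG.Blk Cfsg.Agent.H678.DG.Pts Cfsg.Agent.H678.DG.HeRep

/-- the action of a generator -/
def A (x : Gen) (i : ℕ) : ℕ := look (tab x) i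

theorem rep_of (x : Gen) (i : Fin 8330) : ((phi (PresentedGroup.of x) i : Fin 8330) : ℕ) = A x i := by
  rw [phi_of]
  rfl

/-- the roots -/
def bs : List ℕ := [1, 241, 1585, 6065, 6170, 7010, 7850]

/-- the parents -/
def pr (i : ℕ) : ℕ := look HeData.pr i

/-- the words of the stabiliser -/
def KW : List (List Gen) := [[.a], [.c], [.d], [.e], [.f], [.g], [.b, .a, .b]]

/-- sizes -/
def kk (j : ℕ) : ℕ := [1, 240, 1344, 4480, 105, 840, 840, 480].getD j 0

/-- the words mapping 0 to the roots -/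
def gam (j : ℕ) : List Gen := [[], [.b], [.b, .c, .d, .c, .b], [.b, .c, .d, .f, .c, .d, .c, .b],
  [.b, .c, .d, .f, .e, .d, .c, .b], [.b, .c, .d, .g, .f, .d, .c, .b], [.b, .c, .d, .f, .g, .d, .c, .b],
  [.b, .c, .d, .f, .e, .d, .c, .d, .b, .c, .d, .c, .b]].getD j []

/-- the collapsed matrix -/
def B (i j : ℕ) : ℕ := ([[0, 0, 0, 4480, 0, 0, 0, 0], [0, 56, 728, 2408, 56, 448, 448, 336],
  [0, 130, 720, 2410, 60, 450, 450, 260], [1, 129, 723, 2385, 60, 462, 462, 258], [0, 128, 768, 2560, 0, 384, 384, 256],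
  [0, 128, 720, 2464, 48, 432, 432, 256], [0, 128, 720, 2464, 48, 432, 432, 256],
  [0, 168, 728, 2408, 56, 448, 448, 224]].getD i []).getD j 0

theorem c1 : allL (Pts.chkW A 8330 bs) KW = true := by decide +kernel
theorem c2 : Pts.chkF A 8330 bs KW pr = true := by decide +kernel
theorem c3 : chkK 8330 8 bs kk = true := by decide +kernel
theorem c4 : Pts.chkB A 8330 8 3 bs gam B = true := by decide +kernel

theorem hdiv : ∀ J : Finset (Fin 8), 3 ∈ J → (∑ j ∈ J, kk j) ∣ 483840 → J = {3} := by decide +kernel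

theorem deg_1920 : ∃ χ : IrrCharacter Cfsg.Spor.He, charDegree (χ : Cfsg.Spor.He → ℂ) = 1920 :=
  deg_of_pts phi (fun x => PresentedGroup.of x) A rep_of (KW := KW) (bs := bs) (pr := pr) (kk := kk) (γ := gam)
    (c₁ := 3) (B := B) (st := 483840) (by rw [HeDegA.card_he]) (by norm_num) (by norm_num) (by decide +kernel) (by norm_num)
    (by norm_num) (by decide +kernel) c1 c2 c3 c4 hdiv
    ![1, 1/120, 5/192, -3/320, -2/15, 1/120, 1/120, 1/120] (-42) ![![0, 0, 0, 0, 0, 0, 0, 0],
    ![-1979/351120, -1/70, -892/4389, 716/3135, 1714/21945, -16/385, -16/385, 0],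
    ![2095/3932544, 0, 5471/122892, -425/8778, -635/61446, 15/2156, 15/2156, 0], ![1/4480, 0, 0, 0, 0, 0, 0, 0],
    ![47/51205, 0, -48/10241, 416/4389, 503/61446, -80/1617, -80/1617, 0],
    ![739/2457840, 0, 482/30723, -92/4389, -344/30723, 65/3234, -2/539, 0],
    ![739/2457840, 0, 482/30723, -92/4389, -344/30723, -2/539, 65/3234, 0],
    ![-145/70224, 1/140, -2747/35112, 983/12540, 2467/87780, -51/3080, -51/3080, 0]] 1920
    (by decide +kernel) (by decide +kernel) (by decide +kernel) (by decide +kernel)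

end Cfsg.Agent.H678.DG.HeDegB
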