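import Cfsg.Agent.H678.DG.Orbital
import Cfsg.Agent.H678.DG.Blk

/-!
# Degrees from a permutation representation given by words (helper678)

`G` acts on `Fin M` through `φ`; `s x` are some elements of `G` whose images are known (`A x i`). The classes are intervals
with roots `rt bs j`; `KW` is a list of words fixing `0` and preserving the classes, transitive on each class (forest `pr`);
`γ j` is a word with `γ j • 0 = rt bs j`; the relation is the orbital of the class `c₁`, whose size cannot be enlarged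
to a divisor of the order of the stabiliser. `deg_of_pts` : the degree of the constituent.
-/

set_option autoImplicit false

namespace Cfsg.Agent.H678.DG.Pts

open Cfsg Equiv Cfsg.Agent.SporadicA.PermTab Cfsg.Agent.H678.DG.Blk

universe u

/-- action of a word, the last letter acts first -/
def av {S : Type} (A : S → ℕ → ℕ) (w : List S) (i : ℕ) : ℕ := List.rec i (fun x _ ih => A x ih) w

theorem av_nil {S : Type} (A : S → ℕ → ℕ) (i : ℕ) : av A [] i = i := rfl

theorem av_cons {S : Type} (A : S → ℕ → ℕ) (x : S) (w : List S) (i : ℕ) : av A (x :: w) i = A x (av A w i) := rfl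

/-- A word fixing `0` and preserving the labels. -/
def chkW {S : Type} (A : S → ℕ → ℕ) (M : ℕ) (bs : List ℕ) (w : List S) : Bool :=
  band (Nat.beq (av A w 0) 0) (allB (fun x => Nat.beq (lab bs (av A w x)) (lab bs x)) M)

/-- The forest of parents. -/
def chkF {S : Type} (A : S → ℕ → ℕ) (M : ℕ) (bs : List ℕ) (KW : List (List S)) (pr : ℕ → ℕ) : Bool :=
  allB (fun x => bor (Nat.beq (rt bs (lab bs x)) x) (forceB (pr x) fun y => band (Nat.blt y x)
    (band (Nat.beq (lab bs y) (lab bs x)) (anyB (fun w => Nat.beq (av A w y) x) KW)))) M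

/-- Packed counting: the number of `k < n` with `p k` and `f k = j` is the digit `j` in base `2 ^ 16`. -/
def pk (p : ℕ → Bool) (f : ℕ → ℕ) (T : ℕ) (n : ℕ) : ℕ → Bool :=
  Nat.rec (fun acc => Nat.beq acc T)
    (fun k ih acc => cond (p k) (forceB (Nat.add acc (Nat.pow 65536 (f k))) ih) (ih acc)) n

theorem pk_succ (p : ℕ → Bool) (f : ℕ → ℕ) (T n acc : ℕ) : pk p f T (n + 1) acc =
    cond (p n) (forceB (Nat.add acc (Nat.pow 65536 (f n))) (pk p f T n)) (pk p f T n acc) := rfl

theorem pk_spec (p : ℕ → Bool) (f : ℕ → ℕ) (T : ℕ) : ∀ n acc : ℕ, pk p f T n acc = true →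
    acc + ∑ k ∈ (Finset.range n).filter (fun k => p k = true), 65536 ^ f k = T := by
  intro n
  induction n with
  | zero =>
    intro acc h
    have h1 : acc = T := Nat.eq_of_beq_eq_true h
    simp [h1]
  | succ n ih =>
    intro acc h
    rw [pk_succ] at h
    rw [Finset.range_add_one, Finset.filter_insert]
    cases hp : p n with
    | true =>
      rw [hp, cond_true, forceB_eq] at h
      have h1 := ih _ h
      rw [if_pos rfl, Finset.sum_insert (by simp), ← h1]
      have h2 : Nat.add acc (Nat.pow 65536 (f n)) = acc + 65536 ^ f n := rfl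
      rw [h2]
      ring
    | false =>
      rw [hp, cond_false] at h
      rw [if_neg (by simp)]
      exact ih _ h

/-- uniqueness of the digits -/
theorem digits_unique {W : ℕ} : ∀ {n : ℕ} {b c : ℕ → ℕ}, (∀ j < n, b j < W) → (∀ j < n, c j < W) →
    ∑ j ∈ Finset.range n, b j * W ^ j = ∑ j ∈ Finset.range n, c j * W ^ j → ∀ j < n, b j = c j := by
  intro n
  induction n with
  | zero => intro b c _ _ _ j hj; omega
  | succ n ih =>
    intro b c hb hc h
    rw [Finset.sum_range_succ', Finset.sum_range_succ'] at h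
    have hW : 0 < W := lt_of_le_of_lt (Nat.zero_le _) (hb 0 (Nat.succ_pos n))
    have e : ∀ b : ℕ → ℕ, ∑ j ∈ Finset.range n, b (j + 1) * W ^ (j + 1) =
        W * ∑ j ∈ Finset.range n, b (j + 1) * W ^ j := by
      intro b
      rw [Finset.mul_sum]
      refine Finset.sum_congr rfl fun j _ => ?_
      rw [pow_succ]
      ring
    rw [e, e, pow_zero, mul_one, mul_one] at h
    have h0 : b 0 = c 0 := by
      have h1 := congrArg (· % W) h
      simpa [Nat.mul_add_mod, Nat.mod_eq_of_lt (hb 0 (Nat.succ_pos n)), Nat.mod_eq_of_lt (hc 0 (Nat.succ_pos n))]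
        using h1
    rw [h0] at h
    have h2 := Nat.eq_of_mul_eq_mul_left hW (Nat.add_right_cancel h)
    have h3 := ih (b := fun j => b (j + 1)) (c := fun j => c (j + 1)) (fun j hj => hb _ (Nat.succ_lt_succ hj))
      (fun j hj => hc _ (Nat.succ_lt_succ hj)) h2
    intro j hj
    cases j with
    | zero => exact h0
    | succ j => exact h3 j (Nat.lt_of_succ_lt_succ hj)

/-- the packed row -/
def row (b : ℕ → ℕ) (n : ℕ) : ℕ := Nat.rec 0 (fun k ih => Nat.add ih (Nat.mul (b k) (Nat.pow 65536 k))) n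

theorem row_eq (b : ℕ → ℕ) (n : ℕ) : row b n = ∑ j ∈ Finset.range n, b j * 65536 ^ j := by
  induction n with
  | zero => rfl
  | succ n ih =>
    have h : row b (n + 1) = row b n + b n * 65536 ^ n := rfl
    rw [h, ih, Finset.sum_range_succ]

theorem card_of_pk {p : ℕ → Bool} {f b : ℕ → ℕ} {M n : ℕ} (hM : M < 65536) (hb : ∀ j < n, b j < 65536)
    (hf : ∀ k < M, p k = true → f k < n) (h : pk p f (row b n) M 0 = true) (j : ℕ) (hj : j < n) :
    ((Finset.range M).filter (fun k => p k = true ∧ f k = j)).card = b j := by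
  classical
  have h1 := pk_spec p f _ M 0 h
  rw [zero_add, row_eq] at h1
  have h2 : ∑ k ∈ (Finset.range M).filter (fun k => p k = true), 65536 ^ f k =
      ∑ j ∈ Finset.range n, ((Finset.range M).filter (fun k => p k = true ∧ f k = j)).card * 65536 ^ j := by
    have h3 : ∀ k ∈ (Finset.range M).filter (fun k => p k = true), f k ∈ Finset.range n := by
      intro k hk
      rw [Finset.mem_filter, Finset.mem_range] at hk
      exact Finset.mem_range.2 (hf k hk.1 hk.2)
    rw [← Finset.sum_fiberwise_of_maps_to h3]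
    refine Finset.sum_congr rfl fun j _ => ?_
    rw [Finset.filter_filter, Finset.sum_congr rfl (g := fun _ => 65536 ^ j), Finset.sum_const, smul_eq_mul]
    intro k hk
    rw [(Finset.mem_filter.1 hk).2.2]
  rw [h2] at h1
  refine digits_unique (fun j _ => ?_) hb h1 j hj
  refine lt_of_le_of_lt (Finset.card_filter_le _ _) ?_
  rwa [Finset.card_range]

/-- The collapsed matrix. -/
def chkB {S : Type} (A : S → ℕ → ℕ) (M n c₁ : ℕ) (bs : List ℕ) (γ : ℕ → List S) (B : ℕ → ℕ → ℕ) : Bool :=
  allB (fun i => band (Nat.beq (av A (γ i) 0) (rt bs i))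
    (pk (fun k => Nat.beq (lab bs k) c₁) (fun k => lab bs (av A (γ i) k)) (row (B i) n) M 0)) n

variable {G : Type u} [Group G] [Finite G] {M n : ℕ}

/-- **Degrees from a permutation representation.** -/
theorem deg_of_pts (φ : G →* Perm (Fin M)) {S : Type} (s : S → G) (A : S → ℕ → ℕ)
    (hA : ∀ x (i : Fin M), ((φ (s x) i : Fin M) : ℕ) = A x i) {KW : List (List S)} {bs : List ℕ} {pr kk : ℕ → ℕ}
    {γ : ℕ → List S} {c₁ : ℕ} {B : ℕ → ℕ → ℕ} {st : ℕ} (hcard : Nat.card G = M * st)
    (hM : 0 < M) (hM' : M < 65536) (hlab0 : lab bs 0 = 0) (hn : 0 < n) (hc₁ : c₁ < n)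
    (hBB : ∀ i < n, ∀ j < n, B i j < 65536)
    (h1 : allL (chkW A M bs) KW = true) (h2 : chkF A M bs KW pr = true) (h3 : chkK M n bs kk = true)
    (h4 : chkB A M n c₁ bs γ B = true)
    (hdiv : ∀ J : Finset (Fin n), ⟨c₁, hc₁⟩ ∈ J → (∑ j ∈ J, kk j) ∣ st → J = {⟨c₁, hc₁⟩})
    (a : Fin n → ℚ) (t : ℚ) (L : Fin n → Fin n → ℚ) (d : ℕ)
    (ha : a ⟨0, hn⟩ = 1) (hBa : ∀ i : Fin n, ∑ j : Fin n, (B i j : ℚ) * a j = t * a i)
    (hL : ∀ i j : Fin n, ∑ l : Fin n, L i l * ((B l j : ℚ) - if l = j then t else 0) =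
      (if i = j then 1 else 0) - if j = ⟨0, hn⟩ then a i else 0)
    (hd : (d : ℚ) * ∑ j : Fin n, (kk j : ℚ) * (a j * a j) = M) :
    ∃ χ : IrrCharacter G, charDegree (χ : G → ℂ) = d := by
  classical
  let act : MulAction G (Fin M) := MulAction.compHom (Fin M) φ
  have hsm : ∀ (g : G) (i : Fin M), g • i = φ g i := fun _ _ => rfl
  -- words
  have hw : ∀ (w : List S) (i : Fin M), (((w.map s).prod • i : Fin M) : ℕ) = av A w i := by
    intro w
    induction w with
    | nil => intro i; rw [List.map_nil, List.prod_nil, one_smul, av_nil]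
    | cons x w ih =>
      intro i
      rw [List.map_cons, List.prod_cons, mul_smul, hsm (s x), hA, ih, av_cons]
  unfold chkK at h3
  rw [band_eq_true, band_eq_true, allB_iff, allB_iff, allB_iff] at h3
  obtain ⟨h5a, h5b, h5c⟩ := h3
  have hlt : ∀ x < M, lab bs x < n := fun x hx => Nat.blt_eq ▸ h5a x hx
  have hrt : ∀ j < n, rt bs j < M := fun j hj => Nat.blt_eq ▸ h5b j hj
  let z : Fin M := ⟨0, hM⟩
  let K : Subgroup G :=
    { carrier := {g | g • z = z ∧ ∀ x : Fin M, lab bs (g • x : Fin M) = lab bs x}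
      one_mem' := ⟨one_smul _ _, fun x => by rw [one_smul]⟩
      mul_mem' := by
        rintro a b ⟨h1, h2⟩ ⟨h3, h4⟩
        exact ⟨by rw [mul_smul, h3, h1], fun x => by rw [mul_smul, h2, h4]⟩
      inv_mem' := by
        rintro a ⟨h1, h2⟩
        refine ⟨by rw [inv_smul_eq_iff, h1], fun x => ?_⟩
        have h3 := h2 (a⁻¹ • x)
        rw [smul_inv_smul] at h3
        exact h3.symm }
  have hK : ∀ g, g ∈ K ↔ g • z = z ∧ ∀ x : Fin M, lab bs (g • x : Fin M) = lab bs x := fun _ => Iff.rfl
  have hKW : ∀ w ∈ KW, (w.map s).prod ∈ K := by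
    intro w hwK
    have h7 := (allL_iff _ _).1 h1 w hwK
    unfold chkW at h7
    rw [band_eq_true] at h7
    rw [hK]
    refine ⟨Fin.ext ?_, fun x => ?_⟩
    · rw [hw]
      exact Nat.eq_of_beq_eq_true h7.1
    · rw [hw]
      exact Nat.eq_of_beq_eq_true ((allB_iff _ _).1 h7.2 x x.2)
  unfold chkF at h2
  rw [allB_iff] at h2
  have hreach : ∀ x, ∀ hx : x < M, ∃ g ∈ K, g • (⟨rt bs (lab bs x), hrt _ (hlt x hx)⟩ : Fin M) = ⟨x, hx⟩ := by
    intro x
    induction x using Nat.strong_induction_on with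
    | _ x ih =>
      intro hx
      have h7 := h2 x hx
      rw [bor_iff, forceB_eq, band_eq_true, band_eq_true, anyB_iff] at h7
      rcases h7 with h7 | ⟨h7, h8, w, hwK, h9⟩
      · refine ⟨1, K.one_mem, ?_⟩
        rw [one_smul]
        exact Fin.ext (Nat.eq_of_beq_eq_true h7)
      · have h10 : pr x < x := Nat.blt_eq ▸ h7
        obtain ⟨g, hg, hgx⟩ := ih _ h10 (h10.trans hx)
        refine ⟨(w.map s).prod * g, K.mul_mem (hKW w hwK) hg, ?_⟩
        have h11 : (⟨rt bs (lab bs x), hrt _ (hlt x hx)⟩ : Fin M) =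
            ⟨rt bs (lab bs (pr x)), hrt _ (hlt _ (h10.trans hx))⟩ :=
          Fin.ext (congrArg (rt bs) (Nat.eq_of_beq_eq_true h8).symm)
        rw [h11, mul_smul, hgx]
        refine Fin.ext ?_
        rw [hw]
        exact Nat.eq_of_beq_eq_true h9
  unfold chkB at h4
  rw [allB_iff] at h4
  have hγ : ∀ i (hi : i < n), ((γ i).map s).prod • z = ⟨rt bs i, hrt i hi⟩ := by
    intro i hi
    have h7 := h4 i hi
    rw [band_eq_true] at h7
    refine Fin.ext ?_
    rw [hw]
    exact Nat.eq_of_beq_eq_true h7.1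
  have htrG : ∀ i : Fin M, ∃ g : G, g • z = i := by
    intro i
    obtain ⟨g, -, hg⟩ := hreach i i.2
    exact ⟨g * ((γ (lab bs i)).map s).prod, by rw [mul_smul, hγ _ (hlt i i.2), hg]⟩
  have hst : Nat.card (MulAction.stabilizer G z) = st := by
    have h7 : Nat.card (MulAction.orbit G z) = M := by
      have h8 : MulAction.orbit G z = Set.univ := by
        ext i
        exact ⟨fun _ => trivial, fun _ => htrG i⟩
      rw [h8, Nat.card_coe_set_eq, Set.ncard_univ, Nat.card_eq_fintype_card, Fintype.card_fin]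
    have h9 : Nat.card (MulAction.orbit G z) * Nat.card (MulAction.stabilizer G z) = Nat.card G := by
      rw [Nat.card_congr (MulAction.orbitEquivQuotientStabilizer G z), ← Subgroup.index_eq_card, mul_comm,
        Subgroup.card_mul_index]
    rw [h7, hcard] at h9
    exact Nat.eq_of_mul_eq_mul_left hM h9
  have hkk : ∀ j : Fin n, (Finset.univ.filter fun i : Fin M => (⟨lab bs i, hlt i i.2⟩ : Fin n) = j).card = kk j := by
    intro j
    have h7 := (cntB_iff _ _ _).1 (h5c j j.2)
    rw [← h7, ← card_fin]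
    congr 1
    ext i
    simp only [Finset.mem_filter, Finset.mem_univ, true_and, Fin.ext_iff]
    exact ⟨fun h => by rw [h]; exact Nat.beq_refl _, Nat.eq_of_beq_eq_true⟩
  have htr : ∀ i : Fin M, ∃ g ∈ K, g • (⟨rt bs (lab bs i), hrt _ (hlt i i.2)⟩ : Fin M) = i := fun i => hreach i i.2
  refine Orbital.deg_of_orbital (G := G) (Y := Fin M) (M := M) (n := n) (fun x => x) (fun _ _ h => h) z
    (fun g i => ⟨g • i, rfl⟩) htrG K (fun g hg => ((hK g).1 hg).1) (fun x => ⟨lab bs x, hlt x x.2⟩)
    (fun j => ⟨rt bs j, hrt j j.2⟩) ?_ htr ⟨c₁, hc₁⟩ ?_ (fun i => ((γ i).map s).prod) (fun i => hγ i i.2)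
    (fun i k => ((γ i).map s).prod • k) (fun i k => rfl) (fun i j => B i j) ?_ (fun j => kk j) hkk ⟨0, hn⟩ ?_ a t L d
    ha hBa hL hd
  · intro g hg i j hij
    rw [← hij]
    exact Fin.ext (((hK g).1 hg).2 i)
  · exact Orbital.class_invariant (G := G) (Y := Fin M) (fun x => x) (fun _ _ h => h) z (fun g i => ⟨g • i, rfl⟩) K
      (fun g hg => ((hK g).1 hg).1) (fun x => ⟨lab bs x, hlt x x.2⟩) (fun j => ⟨rt bs j, hrt j j.2⟩) htr ⟨c₁, hc₁⟩ st hst
      (fun j => kk j) hkk hdiv
  · intro i j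
    have h7 := h4 i i.2
    rw [band_eq_true] at h7
    rw [← card_of_pk hM' (fun j hj => hBB i i.2 j hj) (fun k hk _ => ?_) h7.2 j j.2]
    · refine Finset.card_bij (fun k _ => (k : ℕ)) ?_ (fun k _ k' _ h => Fin.ext h) ?_
      · intro k hk
        rw [Finset.mem_filter] at hk ⊢
        refine ⟨Finset.mem_range.2 k.2, ?_, ?_⟩
        · have h8 : lab bs k = c₁ := congrArg Fin.val hk.2.1
          rw [h8]
          exact Nat.beq_refl _
        · have h8 := congrArg Fin.val hk.2.2
          have h9 : lab bs (((((γ i).map s).prod • k : Fin M)) : ℕ) = j := h8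
          rwa [hw] at h9
      · intro k hk
        rw [Finset.mem_filter, Finset.mem_range] at hk
        refine ⟨⟨k, hk.1⟩, ?_, rfl⟩
        rw [Finset.mem_filter]
        refine ⟨Finset.mem_univ _, Fin.ext (Nat.eq_of_beq_eq_true hk.2.1), Fin.ext ?_⟩
        show lab bs (((((γ i).map s).prod • (⟨k, hk.1⟩ : Fin M) : Fin M)) : ℕ) = j
        rw [hw]
        exact hk.2.2
    · have h8 := hw (γ i) ⟨k, hk⟩
      rw [← h8]
      exact hlt _ (Fin.is_lt _)
  · exact Fin.ext hlab0

end Cfsg.Agent.H678.DG.Pts
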