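import Cfsg.Agent.H653.Sieve.Col
import Cfsg.Agent.SmallSimple.TheoremCCor

/-!
# Parity arguments with sign relations (helper678)

* `sum_signs_ne` : an odd number of signs has a nonzero sum.
* `Rel` : a sign relation on the `p`-regular elements.
* `Rel.col` : the relation for the columns of a prime different from `p`.
* `Rel.exists_zero` : if the column takes the values `0, ± w` only and the number of members is odd then it vanishes
  at a member.
* `col_stable` : the column of a prime `r ∥ |G|` when `N(R)` acts trivially on the characters of the `r'`-part of `C(R)`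
  and transitively on `R ∖ 1`.
-/

set_option autoImplicit false

namespace Cfsg.Agent.H678.DG

open Cfsg Subgroup
open Cfsg.Agent.Characters.Core Cfsg.Agent.H653.Sieve
open Cfsg.Agent.SmallSimple.ThetaSetup Cfsg.Agent.SmallSimple.ThetaOrtho
open Cfsg.Agent.SmallSimple.TheoremC Cfsg.Agent.SmallSimple.TheoremCCor Cfsg.Agent.SmallSimple.ThetaCount

universe u

theorem odd_sum_iff {ι : Type*} (F : Finset ι) (f : ι → ℤ) :
    Odd (∑ i ∈ F, f i) ↔ Odd (F.filter fun i => Odd (f i)).card := by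
  classical
  induction F using Finset.induction_on with
  | empty => simp
  | insert a F ha ih =>
    rw [Finset.sum_insert ha, Finset.filter_insert]
    by_cases h : Odd (f a)
    · rw [if_pos h, Finset.card_insert_of_notMem (fun h' => ha (Finset.mem_filter.1 h').1), Int.odd_add,
        Nat.odd_add_one, ← ih]
      simp [h]
    · rw [if_neg h, ← ih, Int.odd_add]
      simp [h]

/-- An odd number of odd integers has an odd sum. -/
theorem odd_sum {ι : Type*} (F : Finset ι) (f : ι → ℤ) (h : ∀ i ∈ F, Odd (f i)) (hodd : Odd F.card) :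
    Odd (∑ i ∈ F, f i) := by
  rw [odd_sum_iff]
  rwa [Finset.filter_true_of_mem h]

variable {G : Type u} [Group G] [Finite G] {p : ℕ}

/-- A sign relation between the members of `F` on the `p`-regular elements. -/
structure Rel (p : ℕ) (F : Finset (IrrCharacter G)) (δ : IrrCharacter G → ℤ) : Prop where
  sign : ∀ χ ∈ F, δ χ = 1 ∨ δ χ = -1
  rel : ∀ g : G, ¬ p ∣ orderOf g → ∑ χ ∈ F, (δ χ : ℂ) * (χ : G → ℂ) g = 0

omit [Finite G] in
theorem Rel.odd {F : Finset (IrrCharacter G)} {δ : IrrCharacter G → ℤ} (h : Rel p F δ) {χ : IrrCharacter G}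
    (hχ : χ ∈ F) : Odd (δ χ) := by
  rcases h.sign χ hχ with h | h <;> rw [h] <;> decide

theorem Rel.col {F : Finset (IrrCharacter G)} {δ : IrrCharacter G → ℤ} (h : Rel p F δ) {P : Subgroup G}
    (hP : ∀ x ∈ P, ¬ p ∣ orderOf x) {e : ℕ} (he : e ≠ 0) {W : IrrCharacter G → ℤ} (hW : IsCol P e W) :
    ∑ χ ∈ F, δ χ * W χ = 0 := by
  classical
  have := Fintype.ofFinite P
  have h1 : ∑ χ ∈ F, (δ χ : ℂ) * csum P (χ : G → ℂ) = 0 := by
    have h2 : ∀ χ ∈ F, (δ χ : ℂ) * csum P (χ : G → ℂ) =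
        ∑ x : P, (δ χ : ℂ) * (χ : G → ℂ) x - (δ χ : ℂ) * (χ : G → ℂ) 1 := by
      intro χ _
      rw [csum_eq, mul_sub, Finset.mul_sum]
    rw [Finset.sum_congr rfl h2, Finset.sum_sub_distrib, Finset.sum_comm, h.rel 1 (by
      have := hP 1 (one_mem _)
      exact this), Finset.sum_eq_zero fun (x : P) _ => h.rel x (hP x x.2), sub_zero]
  have h2 : (e : ℂ) * ((∑ χ ∈ F, δ χ * W χ : ℤ) : ℂ) = 0 := by
    rw [← h1]
    push_cast
    rw [Finset.mul_sum]
    refine Finset.sum_congr rfl fun χ _ => ?_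
    rw [← hW χ]
    ring
  have h3 := (mul_eq_zero.1 h2).resolve_left (by exact_mod_cast he)
  exact_mod_cast h3

/-- **Parity.** -/
theorem Rel.exists_zero {F : Finset (IrrCharacter G)} {δ : IrrCharacter G → ℤ} (h : Rel p F δ) (hodd : Odd F.card)
    {W : IrrCharacter G → ℤ} (hW : ∑ χ ∈ F, δ χ * W χ = 0) {w : ℤ} (hw : w ≠ 0)
    (hval : ∀ χ ∈ F, W χ = 0 ∨ W χ = w ∨ W χ = -w) : ∃ χ ∈ F, W χ = 0 := by
  classical
  by_contra hcon
  push Not at hcon
  have hval' : ∀ χ ∈ F, ∃ s : ℤ, (s = 1 ∨ s = -1) ∧ W χ = s * w := by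
    intro χ hχ
    rcases (hval χ hχ).resolve_left (hcon χ hχ) with h | h
    · exact ⟨1, Or.inl rfl, by rw [h, one_mul]⟩
    · exact ⟨-1, Or.inr rfl, by rw [h, neg_one_mul]⟩
  choose! s hs1 hs2 using hval'
  have h1 : (∑ χ ∈ F, δ χ * s χ) * w = 0 := by
    rw [Finset.sum_mul, ← hW]
    refine Finset.sum_congr rfl fun χ hχ => ?_
    rw [hs2 χ hχ]; ring
  have h2 := (mul_eq_zero.1 h1).resolve_right hw
  have h3 := odd_sum F (fun χ => δ χ * s χ) (fun χ hχ => by
    refine (h.odd hχ).mul ?_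
    rcases hs1 χ hχ with h | h <;> rw [h] <;> decide) hodd
  rw [h2] at h3
  exact absurd h3 (by decide)

/-- The number of the members with an odd value of the column is even. -/
theorem Rel.even_card {F : Finset (IrrCharacter G)} {δ : IrrCharacter G → ℤ} (h : Rel p F δ)
    {W : IrrCharacter G → ℤ} (hW : ∑ χ ∈ F, δ χ * W χ = 0) : Even (F.filter fun χ => Odd (W χ)).card := by
  classical
  by_contra hcon
  rw [Nat.not_even_iff_odd] at hcon
  have h1 : Odd (∑ χ ∈ F, δ χ * W χ) := by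
    rw [odd_sum_iff]
    have h2 : (F.filter fun χ => Odd (δ χ * W χ)) = F.filter fun χ => Odd (W χ) := by
      refine Finset.filter_congr fun χ hχ => ?_
      rw [Int.odd_mul]
      exact and_iff_right (h.odd hχ)
    rwa [h2]
  rw [hW] at h1
  exact absurd h1 (by decide)

/-- **The column of a prime, trivial action.** -/
theorem col_stable {r : ℕ} [Fact r.Prime] {P : Sylow r G} (hP : Nat.card P = r) {K : Subgroup G}
    (hK : IsComp r (P : Subgroup G) K)
    (hst : ∀ n ∈ normalizer ((P : Subgroup G) : Set G), ∃ k ∈ K, ∀ y ∈ K, n * y * n⁻¹ = k * y * k⁻¹)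
    (he : (centralizer ((P : Subgroup G) : Set G)).relIndex (normalizer ((P : Subgroup G) : Set G)) = r - 1)
    (χ : IrrCharacter G) : ∃ w : ℤ, (∀ x ∈ (P : Subgroup G), x ≠ 1 → (χ : G → ℂ) x = w) ∧
      (w = 0 ∨ ∃ θ : IrrCharacter K, w = charDegree (θ : K → ℂ) ∨ w = -(charDegree (θ : K → ℂ) : ℤ)) := by
  classical
  by_cases hv : ∃ g : G, r ∣ orderOf g ∧ (χ : G → ℂ) g ≠ 0
  · obtain ⟨θ, hθ⟩ := exists_mem_Over hK hP (χ := χ) hv
    have hstab : ∀ n ∈ normalizer ((P : Subgroup G) : Set G), tw (θ : K → ℂ) n = θ := by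
      intro n hn
      funext y
      rw [tw_apply hK _ hn]
      obtain ⟨k, hk, h⟩ := hst n hn
      have h1 : (⟨n * y * n⁻¹, conj_mem hK hn y.2⟩ : K) = (⟨k, hk⟩ : K) * y * (⟨k, hk⟩ : K)⁻¹ :=
        Subtype.ext (h y y.2)
      rw [h1]
      exact isIrr_isClassFunction θ.2 y ⟨k, hk⟩
    have he' : Nat.card (stabAct hK (θ : K → ℂ)) = r - 1 := by
      rw [card_stabAct_of_stable hK hP θ.2 hstab, he]
    obtain ⟨B, δ, -, hB, hδ, -⟩ := theoremC_one hK hP θ.2 he'
    obtain ⟨n, hn0, hn1⟩ := isIrr_apply_one θ.2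
    have hdeg : charDegree (θ : K → ℂ) = n := by
      unfold charDegree
      rw [hn1]; simp
    obtain ⟨hs, hpart⟩ := hδ χ ((hB χ).1 hθ)
    refine ⟨δ χ * n, fun x hx hx1 => ?_, Or.inr ⟨θ, ?_⟩⟩
    · have h1 := apply_of_stable hK hP θ.2 hstab hθ (x := (⟨x, hx⟩ : (P : Subgroup G)))
        (fun h => hx1 (congrArg Subtype.val h)) 1
      rw [Subgroup.coe_one, mul_one] at h1
      have h2 : (χ : G → ℂ) ((⟨x, hx⟩ : (P : Subgroup G)) : G) = (χ : G → ℂ) x := rfl
      rw [h2] at h1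
      rw [h1, hpart _ (fun h => hx1 (congrArg Subtype.val h)), hn1]
      push_cast
      rfl
    · rw [hdeg]
      rcases hs with h | h <;> rw [h]
      · left; rw [one_mul]
      · right; rw [neg_one_mul]
  · refine ⟨0, ?_, Or.inl rfl⟩
    push Not at hv
    intro x hx hx1
    rw [Int.cast_zero]
    apply hv
    rw [Blocks.CyclicOrtho.orderOf_eq P hP hx hx1]

/-- Vanishing on a group of order `r` gives `r ∣ χ(1)`. -/
theorem dvd_of_zero {r : ℕ} {P : Subgroup G} (hP : Nat.card P = r) {χ : IrrCharacter G}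
    (h : ∀ x ∈ P, x ≠ 1 → (χ : G → ℂ) x = 0) : r ∣ charDegree (χ : G → ℂ) := by
  classical
  have := Fintype.ofFinite P
  obtain ⟨m, hm⟩ := SmallSimple.TheoremBCor.exists_sum_eq (isIrr_isCharacter χ.2) P
  have h1 : ∑ x : P, (χ : G → ℂ) x = (χ : G → ℂ) 1 := by
    rw [Finset.sum_eq_single_of_mem (1 : P) (Finset.mem_univ _)]
    · simp
    · intro x _ hx
      exact h x x.2 fun e => hx (Subtype.ext e)
  rw [h1, Blocks.Knorr.charDegree_eq χ.2, hP] at hm
  exact ⟨m, by rw [mul_comm]; exact_mod_cast hm⟩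

end Cfsg.Agent.H678.DG
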