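import Cfsg.Agent.H678.DG.BlkRel
import Cfsg.Agent.H678.DG.BlkPar
import Cfsg.Agent.H838.Transport
import Cfsg.Agent.H839.Count

/-!
# The local structure `N(X) = F × S`, `F ∩ C(X) = X` (helper678)
-/

set_option autoImplicit false

namespace Cfsg.Agent.H678.DG

open Cfsg Subgroup
open Cfsg.Agent.Characters.Core Cfsg.Agent.Blocks.Basic Cfsg.Agent.Blocks.Local
open Cfsg.Agent.H838.Transport

/-- `N(X) = F × S` with `F ∩ C(X) = X` and `S ≅ Sym(n)`. -/
structure Loc {G : Type*} [Group G] (m n : ℕ) (X F S : Subgroup G) : Prop where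
  cardF : Nat.card F = m
  le : X ≤ F
  inf : F ⊓ centralizer (X : Set G) = X
  bot : F ⊓ S = ⊥
  comm : ∀ x ∈ F, ∀ y ∈ S, x * y = y * x
  sup : F ⊔ S = normalizer (X : Set G)
  iso : Nonempty (S ≃* Equiv.Perm (Fin n))

variable {G : Type*} [Group G] {m n : ℕ} {X F S : Subgroup G}

theorem exists_loc {D : Set G} (h : NormStr m n D X) : ∃ F S : Subgroup G, Loc m n X F S := by
  obtain ⟨F, h1, h2, h3, h4, h5, h6, h7⟩ := h
  exact ⟨F, _, h1, h2, h3, h4, h5, h6, h7⟩

namespace Loc

theorem leS (h : Loc m n X F S) : S ≤ centralizer (X : Set G) := by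
  intro s hs
  rw [mem_centralizer_iff]
  intro x hx
  exact h.comm x (h.le hx) s hs

theorem exists_mul (h : Loc m n X F S) {g : G} (hg : g ∈ normalizer (X : Set G)) : ∃ f ∈ F, ∃ s ∈ S, g = f * s := by
  rw [← h.sup] at hg
  have hcm : ∀ (a : ↥F) (b : ↥S), Commute (F.subtype a) (S.subtype b) := fun a b => h.comm a a.2 b b.2
  have hle : F ⊔ S ≤ (MonoidHom.noncommCoprod F.subtype S.subtype hcm).range := by
    refine sup_le ?_ ?_
    · intro x hx
      exact ⟨(⟨x, hx⟩, 1), by simp⟩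
    · intro x hx
      exact ⟨(1, ⟨x, hx⟩), by simp⟩
  obtain ⟨⟨a, b⟩, hab⟩ := hle hg
  exact ⟨a, a.2, b, b.2, by rw [← hab]; simp⟩

theorem exists_mul_cent (h : Loc m n X F S) {c : G} (hc : c ∈ centralizer (X : Set G)) :
    ∃ x ∈ X, ∃ s ∈ S, c = x * s := by
  obtain ⟨x, hx, s, hs, rfl⟩ := h.exists_mul (centralizer_le_normalizer _ hc)
  refine ⟨x, ?_, s, hs, rfl⟩
  rw [← h.inf]
  refine ⟨hx, ?_⟩
  have h3 := mul_mem hc (inv_mem (h.leS hs))
  rwa [mul_inv_cancel_right] at h3

theorem botX (h : Loc m n X F S) : X ⊓ S = ⊥ := by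
  rw [eq_bot_iff, ← h.bot]
  exact inf_le_inf_right _ h.le

theorem comm' (h : Loc m n X F S) : ∀ x ∈ X, ∀ y ∈ S, x * y = y * x := fun x hx y hy => h.comm x (h.le hx) y hy

theorem mem_S_of_reg (h : Loc m n X F S) {p : ℕ} (hp : ∀ x ∈ X, x ≠ 1 → orderOf x = p) {c : G}
    (hc : c ∈ centralizer (X : Set G)) (hcp : ¬ p ∣ orderOf c) : c ∈ S := by
  obtain ⟨x, hx, s, hs, rfl⟩ := h.exists_mul_cent hc
  have hcom : Commute x s := h.comm' x hx s hs
  by_cases hx1 : x = 1
  · rw [hx1, one_mul]; exact hs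
  exfalso
  apply hcp
  rw [← hp x hx hx1, orderOf_dvd_iff_pow_eq_one]
  have h1 : (x * s) ^ orderOf (x * s) = 1 := pow_orderOf_eq_one _
  rw [hcom.mul_pow] at h1
  have h2 : x ^ orderOf (x * s) ∈ X ⊓ S := by
    refine ⟨pow_mem hx _, ?_⟩
    rw [eq_inv_of_mul_eq_one_left h1]
    exact S.inv_mem (S.pow_mem hs _)
  rw [h.botX, mem_bot] at h2
  exact h2

theorem cent_eq (h : Loc m n X F S) (hX : X ≤ centralizer (X : Set G)) : X ⊔ S = centralizer (X : Set G) := by
  apply le_antisymm (sup_le hX h.leS)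
  intro c hc
  obtain ⟨x, hx, s, hs, rfl⟩ := h.exists_mul_cent hc
  exact mul_mem (mem_sup_left hx) (mem_sup_right hs)

theorem cardS (h : Loc m n X F S) : Nat.card S = n.factorial := by
  obtain ⟨e⟩ := h.iso
  rw [Nat.card_congr e.toEquiv, Nat.card_eq_fintype_card, Fintype.card_perm, Fintype.card_fin]

theorem card_cent (h : Loc m n X F S) (hX : X ≤ centralizer (X : Set G)) :
    Nat.card (centralizer (X : Set G)) = Nat.card X * n.factorial := by
  rw [← h.cent_eq hX, H839.Count.card_sup_of_comm h.comm' h.botX, h.cardS]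

theorem card_norm (h : Loc m n X F S) : Nat.card (normalizer (X : Set G)) = m * n.factorial := by
  rw [← h.sup, H839.Count.card_sup_of_comm h.comm h.bot, h.cardS, h.cardF]

theorem relIndex [Finite G] (h : Loc m n X F S) (hX : X ≤ centralizer (X : Set G)) {e : ℕ} (he : m = Nat.card X * e) :
    (centralizer (X : Set G)).relIndex (normalizer (X : Set G)) = e := by
  have hle : centralizer (X : Set G) ≤ normalizer (X : Set G) := centralizer_le_normalizer _
  have h3 := Subgroup.index_mul_card ((centralizer (X : Set G)).subgroupOf (normalizer (X : Set G)))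
  rw [Nat.card_congr (Subgroup.subgroupOfEquivOfLe hle).toEquiv, h.card_cent hX, h.card_norm, he] at h3
  have h4 : 0 < Nat.card X * n.factorial := Nat.mul_pos Nat.card_pos n.factorial_pos
  apply Nat.eq_of_mul_eq_mul_right h4
  rw [Subgroup.relIndex, h3]; ring

/-- The homomorphism onto the symmetric group. -/
theorem exists_hom (h : Loc m n X F S) (hX : X ≤ centralizer (X : Set G)) :
    ∃ f : ↥(centralizer (X : Set G)) →* Equiv.Perm (Fin n), Function.Surjective f ∧
      ∀ c, f c = 1 ↔ (c : G) ∈ X := by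
  obtain ⟨e⟩ := h.iso
  have hcm : ∀ (a : ↥X) (b : ↥S), Commute (inclusion hX a) (inclusion h.leS b) := fun a b =>
    Subtype.ext (h.comm' a a.2 b b.2)
  let φ : ↥X × ↥S →* ↥(centralizer (X : Set G)) := MonoidHom.noncommCoprod (inclusion hX) (inclusion h.leS) hcm
  have hφ : ∀ a b, ((φ (a, b) : ↥(centralizer (X : Set G))) : G) = a * b := fun a b => by
    simp [φ]
  have hbij : Function.Bijective φ := by
    constructor
    · rw [injective_iff_map_eq_one]
      rintro ⟨a, b⟩ hab
      have h1 : (a : G) * b = 1 := by rw [← hφ, hab]; rfl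
      have h2 : (b : G) ∈ X ⊓ S := by
        refine ⟨?_, b.2⟩
        have h3 : (b : G) = (a : G)⁻¹ := eq_inv_of_mul_eq_one_right h1
        rw [h3]
        exact X.inv_mem a.2
      rw [h.botX, mem_bot] at h2
      rw [h2, mul_one] at h1
      exact Prod.ext (Subtype.ext h1) (Subtype.ext h2)
    · rintro ⟨c, hc⟩
      obtain ⟨x, hx, s, hs, rfl⟩ := h.exists_mul_cent hc
      exact ⟨(⟨x, hx⟩, ⟨s, hs⟩), Subtype.ext (hφ _ _)⟩
  let ψ := MulEquiv.ofBijective φ hbij
  refine ⟨(e.toMonoidHom.comp (MonoidHom.snd ↥X ↥S)).comp ψ.symm.toMonoidHom, ?_, ?_⟩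
  · intro y
    refine ⟨ψ (1, e.symm y), ?_⟩
    simp
  · intro c
    obtain ⟨⟨a, b⟩, rfl⟩ := ψ.surjective c
    have h1 : ((ψ (a, b) : ↥(centralizer (X : Set G))) : G) = a * b := hφ a b
    rw [h1]
    have h2 : ((e.toMonoidHom.comp (MonoidHom.snd ↥X ↥S)).comp ψ.symm.toMonoidHom) (ψ (a, b)) = e b := by
      simp
    rw [h2]
    constructor
    · intro h3
      have h4 : b = 1 := e.injective (h3.trans (map_one e).symm)
      rw [h4]
      simp
    · intro h3
      have h4 : (b : G) ∈ X ⊓ S := by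
        refine ⟨?_, b.2⟩
        have h5 := mul_mem (inv_mem a.2) h3
        rwa [inv_mul_cancel_left] at h5
      rw [h.botX, mem_bot] at h4
      have h5 : b = 1 := Subtype.ext h4
      rw [h5, map_one]

/-- An element of `N(X)` outside `C(X)` centralizing the regular elements of `C(X)`. -/
theorem exists_t (h : Loc m n X F S) (hm : Nat.card X < m) :
    ∃ t ∈ F, t ∉ centralizer (X : Set G) := by
  by_contra hcon
  push Not at hcon
  have h1 : F ≤ X := by
    intro t ht
    rw [← h.inf]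
    exact ⟨ht, hcon t ht⟩
  have h2 : F = X := le_antisymm h1 h.le
  have h3 := h.cardF
  rw [h2] at h3
  omega

end Loc

/-- **The sign relation from the local structure.** -/
theorem Loc.exists_rel [Finite G] {p : ℕ} [hp : Fact p.Prime] {M : Ideal AlgInt} (hM : IsPModular p M) {x : G}
    (hx : orderOf x = p) (h : Loc m n (zpowers x) F S) (hm : p < m)
    (θ : IrrCharacter (centralizer ((zpowers x : Subgroup G) : Set G)))
    (hdeg : (Nat.card (centralizer ((zpowers x : Subgroup G) : Set G))).factorization p ≤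
      (charDegree (θ : centralizer ((zpowers x : Subgroup G) : Set G) → ℂ)).factorization p + 1) :
    ∃ (B : Set (IrrCharacter G)) (A : Finset (IrrCharacter G)) (δ : IrrCharacter G → ℤ) (e : ℕ),
      IsInducedBlock M (centralizer ((zpowers x : Subgroup G) : Set G))
        (blockOf M (θ : centralizer ((zpowers x : Subgroup G) : Set G) → ℂ)) B ∧
      IsDefectGroup p M B (zpowers x) ∧ (∀ χ ∈ A, χ ∈ B) ∧ A.card = e + 1 ∧ e ∣ p - 1 ∧ e ≠ 1 ∧ Rel p A δ := by
  obtain ⟨t, ht, htC⟩ := h.exists_t (by rw [Nat.card_zpowers, hx]; exact hm)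
  have hord : ∀ y ∈ zpowers x, y ≠ 1 → orderOf y = p := by
    intro y hy hy1
    have h1 : orderOf y ∣ p := by rw [← hx]; exact orderOf_dvd_of_mem_zpowers hy
    rcases (Nat.dvd_prime hp.out).1 h1 with h2 | h2
    · exact absurd (orderOf_eq_one_iff.1 h2) hy1
    · exact h2
  obtain ⟨B, A, δ, e, h1, h2, h3, h4, h5, h6, h7, h8⟩ := DG.exists_rel hM hx rfl θ hdeg t
    (by rw [← h.sup]; exact mem_sup_left ht) htC (fun c hc => by
      refine ⟨1, ?_⟩
      have h1 : (c : G) ∈ S := h.mem_S_of_reg hord c.2 (by rwa [Subgroup.orderOf_coe])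
      rw [h.comm t ht _ h1, mul_inv_cancel_right]
      simp)
  exact ⟨B, A, δ, e, h1, h2, h3, h4, h5, h6, h7, h8⟩

end Cfsg.Agent.H678.DG
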