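import Cfsg.Agent.H678.DG.FiBlk
import Cfsg.Agent.Characters.ClassMul

/-!
# Two 5-blocks of `Fi₂₃` (helper678)
-/

set_option autoImplicit false
set_option maxRecDepth 100000

namespace Cfsg.Agent.H678.DG.FiBlk

open Cfsg Subgroup
open Cfsg.Agent.Characters.Core Cfsg.Agent.Blocks.Basic Cfsg.Agent.Blocks.Local
open Cfsg.Agent.H838.Fi23 (DD five_main)
open Cfsg.Agent.H839.Fi23
open Cfsg.Spor (Fi23)

theorem idx7 {x : Fi23} (hx : orderOf x = 7) : (centralizer ({x} : Set Fi23)).index = 5 * 973683446022144 := by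
  have h1 : Nat.card (zpowers x) = 7 := by rw [Nat.card_zpowers, hx]
  obtain ⟨F, S, hL⟩ := exists_loc (seven_main (zpowers x) h1)
  have h2 := hL.card_cent (le_cent7 h1)
  have h3 := (centralizer ({x} : Set Fi23)).card_mul_index
  rw [H870.IMLocal.centralizer_zpowers, h2, h1, cardG] at h3
  rw [H870.IMLocal.centralizer_zpowers]
  have h4 : Nat.factorial 5 = 120 := by decide
  rw [h4] at h3
  omega

theorem factG : (Nat.card Fi23).factorization 5 = 2 := by
  rw [cardG]
  have h : (4089470473293004800 : ℕ) = 5 ^ 2 * 163578818931720192 := by norm_num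
  rw [h, Nat.factorization_mul (by norm_num) (by norm_num), Finsupp.add_apply,
    (by norm_num : Nat.Prime 5).factorization_pow, Finsupp.single_eq_same,
    Nat.factorization_eq_zero_of_not_dvd (by norm_num)]

/-- Integers from central characters. -/
theorem dvd_of_centralChar {G : Type*} [Group G] [Finite G] {p : ℕ} [hp : Fact p.Prime] {M : Ideal AlgInt}
    (hM : IsPModular p M) {χ : IrrCharacter G} {g : G} {w : ℤ} (hw : (χ : G → ℂ) g = w) {i : ℕ}
    (hidx : (centralizer ({g} : Set G)).index = p * i) (hi : ¬ p ∣ i) (hd : p ∣ charDegree (χ : G → ℂ))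
    (h : MemLocalIdeal M (centralChar (χ : G → ℂ) g)) : (p : ℤ) ∣ w := by
  have : M.IsPrime := isPrime_of_isPModular hM
  obtain ⟨d, hd⟩ := hd
  have hpos := charDegree_pos χ.2
  have hd0 : d ≠ 0 := by rintro rfl; rw [hd, mul_zero] at hpos; exact lt_irrefl _ hpos
  have h1 : ((i : ℤ) * w : ℤ) = centralChar (χ : G → ℂ) g * (d : ℂ) := by
    unfold centralChar
    rw [hw, hidx, Blocks.Knorr.charDegree_eq χ.2, hd]
    have hp0 : (p : ℂ) ≠ 0 := by exact_mod_cast hp.out.ne_zero
    have hd0' : (d : ℂ) ≠ 0 := by exact_mod_cast hd0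
    push_cast
    field_simp
  have h2 : MemLocalIdeal M (((i : ℤ) * w : ℤ) : ℂ) := by
    rw [h1]
    exact memLocalIdeal_mul_right h (memLocalRing_natCast _)
  rw [memLocalIdeal_intCast_iff hM] at h2
  rcases Int.Prime.dvd_mul' hp.out h2 with h3 | h3
  · exact absurd (by exact_mod_cast h3) hi
  · exact h3

section

variable {x : Fi23}

theorem le_cent5 (_ : orderOf x = 5) : zpowers x ≤ centralizer ((zpowers x : Subgroup Fi23) : Set Fi23) := by
  rw [← H870.IMLocal.centralizer_zpowers, zpowers_le, mem_centralizer_singleton_iff]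

variable {F S : Subgroup Fi23}

theorem card5 (hx : orderOf x = 5) (hL : Loc 20 7 (zpowers x) F S) :
    Nat.card (centralizer ((zpowers x : Subgroup Fi23) : Set Fi23)) = 25200 := by
  rw [hL.card_cent (le_cent5 hx), Nat.card_zpowers, hx]
  decide +kernel

theorem fact5 (hx : orderOf x = 5) (hL : Loc 20 7 (zpowers x) F S) :
    (Nat.card (centralizer ((zpowers x : Subgroup Fi23) : Set Fi23))).factorization 5 = 2 := by
  rw [card5 hx hL]
  have h : (25200 : ℕ) = 5 ^ 2 * 1008 := by norm_num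
  rw [h, Nat.factorization_mul (by norm_num) (by norm_num), Finsupp.add_apply,
    (by norm_num : Nat.Prime 5).factorization_pow, Finsupp.single_eq_same,
    Nat.factorization_eq_zero_of_not_dvd (by norm_num)]

theorem order_f {f : ↥(centralizer ((zpowers x : Subgroup Fi23) : Set Fi23)) →* Equiv.Perm (Fin 7)}
    (hx : orderOf x = 5) (hf : ∀ c, f c = 1 ↔ (c : Fi23) ∈ zpowers x)
    {c : ↥(centralizer ((zpowers x : Subgroup Fi23) : Set Fi23))} (hc : orderOf c = 7) : orderOf (f c) = 7 := by
  have h1 : orderOf (f c) ∣ 7 := (orderOf_map_dvd f c).trans hc.dvd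
  rcases (Nat.dvd_prime (by norm_num)).1 h1 with h2 | h2
  · exfalso
    rw [orderOf_eq_one_iff, hf] at h2
    have h3 := orderOf_dvd_of_mem_zpowers h2
    rw [Subgroup.orderOf_coe, hc, hx] at h3
    exact absurd h3 (by decide)
  · exact h2

/-- The number of the elements of the centralizer conjugate to a given element of order 7. -/
theorem card_conj {C : Subgroup Fi23} (hC : C = centralizer ((zpowers x : Subgroup Fi23) : Set Fi23))
    {f : C →* Equiv.Perm (Fin 7)}
    (hx : orderOf x = 5) (hCc : Nat.card C = 25200) (hfs : Function.Surjective f)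
    (hf : ∀ c, f c = 1 ↔ (c : Fi23) ∈ zpowers x) (hfo : ∀ c, orderOf c = 7 → orderOf (f c) = 7)
    {y : Fi23} (hy : orderOf y = 7) :
    ¬ 25 ∣ {h : C | IsConj y (h : Fi23)}.ncard := by
  classical
  have := Fintype.ofFinite C
  have hCm : ∀ g ∈ C, ∀ z ∈ zpowers x, z * g = g * z := by
    intro g hg
    rw [hC, mem_centralizer_iff] at hg
    exact hg
  obtain ⟨h0, hh0⟩ := exists_prime_orderOf_dvd_card' (G := C) 7 (by rw [hCc]; norm_num)
  have hset : {h : C | IsConj y (h : Fi23)} = ((Finset.univ.filter (IsConj h0) : Finset C) : Set C) := by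
    ext h
    simp only [Set.mem_ofPred_eq, Finset.coe_filter, Finset.mem_univ, true_and]
    constructor
    · intro hh
      obtain ⟨g, hg⟩ := isConj_iff.1 hh
      have ho : orderOf h = 7 := by
        rw [← Subgroup.orderOf_coe, ← hg, ← hy]
        exact (MulAut.conj g).orderOf_eq y
      obtain ⟨σ, hσ⟩ := isConj_iff.1 (Sym.isConj_seven (hfo _ hh0) (hfo _ ho))
      obtain ⟨c, rfl⟩ := hfs σ
      -- the difference is in the kernel
      have hz : f (h * (c * h0 * c⁻¹)⁻¹) = 1 := by
        rw [map_mul, map_inv, map_mul, map_mul, map_inv, hσ, mul_inv_cancel]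
      rw [hf] at hz
      set z : C := h * (c * h0 * c⁻¹)⁻¹ with hzd
      have hzc : ∀ a : C, a * z = z * a := by
        intro a
        exact Subtype.ext (hCm _ a.2 _ hz).symm
      have h2 : h = z * (c * h0 * c⁻¹) := by rw [hzd]; group
      have h3 : z = 1 := by
        have e1 : h ^ 7 = 1 := by rw [← ho]; exact pow_orderOf_eq_one h
        have e2 : (c * h0 * c⁻¹) ^ 7 = 1 := by
          rw [conj_pow]
          have : h0 ^ 7 = 1 := by rw [← hh0]; exact pow_orderOf_eq_one h0
          rw [this, mul_one, mul_inv_cancel]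
        have e3 : z ^ 7 = 1 := by
          rw [h2, (show Commute z (c * h0 * c⁻¹) from (hzc _).symm).mul_pow, e2, mul_one] at e1
          exact e1
        have e4 : orderOf z ∣ 7 := orderOf_dvd_of_pow_eq_one e3
        have e5 : orderOf z ∣ 5 := by
          have := orderOf_dvd_of_mem_zpowers hz
          rwa [Subgroup.orderOf_coe, hx] at this
        have e6 := Nat.dvd_gcd e4 e5
        have e7 : Nat.gcd 7 5 = 1 := by decide
        rw [e7, Nat.dvd_one, orderOf_eq_one_iff] at e6
        exact e6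
      rw [h3, one_mul] at h2
      exact isConj_iff.2 ⟨c, h2.symm⟩
    · intro hh
      have ho : orderOf (h : Fi23) = 7 := by
        rw [Subgroup.orderOf_coe, ← hh0]
        obtain ⟨g, hg⟩ := isConj_iff.1 hh
        rw [← hg]
        exact (MulAut.conj g).orderOf_eq h0
      exact isConj7 hy ho
  have hcf : (Finset.univ.filter (IsConj h0) : Finset C).card = (centralizer ({h0} : Set C)).index := by
    convert Characters.ClassMul.card_filter_isConj h0
  rw [hset, Set.ncard_coe_finset, hcf]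
  intro h25
  have h5 : 5 ∣ Nat.card (centralizer ({h0} : Set C)) := by
    have h1 : (zpowers x).subgroupOf C ≤ centralizer ({h0} : Set C) := by
      intro a ha
      rw [mem_centralizer_singleton_iff]
      exact Subtype.ext (hCm _ h0.2 _ ha)
    have h2 := Subgroup.card_dvd_of_le h1
    rw [Nat.card_congr (subgroupOfEquivOfLe (by rw [hC]; exact le_cent5 hx)).toEquiv, Nat.card_zpowers, hx] at h2
    exact h2
  have h6 := (centralizer ({h0} : Set C)).card_mul_index
  rw [hCc] at h6
  have h7 := Nat.mul_dvd_mul h5 h25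
  rw [h6] at h7
  revert h7
  decide

end

/-- **Two blocks.** -/
theorem two_blocks : ∃ (A A' : Finset (IrrCharacter Fi23)) (δ δ' : IrrCharacter Fi23 → ℤ), Rel 5 A δ ∧ Rel 5 A' δ' ∧
    Odd A.card ∧ Odd A'.card ∧ Disjoint A A' ∧ (∀ χ ∈ A, 5 ∣ charDegree (χ : Fi23 → ℂ)) ∧
    (∀ χ ∈ A', 5 ∣ charDegree (χ : Fi23 → ℂ)) ∧
    ∀ χ ∈ A, ∀ y : Fi23, orderOf y = 7 → ∀ w : ℤ, (χ : Fi23 → ℂ) y = w → (5 : ℤ) ∣ w := by
  classical
  obtain ⟨M, hM⟩ := Blocks.Knorr.exists_isPModular 5
  have : M.IsPrime := isPrime_of_isPModular hM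
  obtain ⟨x, hx⟩ := exists_prime_orderOf_dvd_card' (G := Fi23) 5 (by rw [cardG]; norm_num)
  obtain ⟨F, S, hL⟩ := exists_loc (five_main (zpowers x) (by rw [Nat.card_zpowers, hx]))
  obtain ⟨f, hfs, hf⟩ := hL.exists_hom (le_cent5 hx)
  have hdegf : ∀ φ : IrrCharacter (Equiv.Perm (Fin 7)), ∀ n : ℕ, (φ : Equiv.Perm (Fin 7) → ℂ) 1 = n →
      charDegree ((φ : Equiv.Perm (Fin 7) → ℂ) ∘ f) = n := by
    intro φ n h
    unfold charDegree
    rw [Function.comp_apply, map_one, h]
    simp
  obtain ⟨φ, hφ1, hφ7⟩ := Sym.exists_35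
  obtain ⟨φ', hφ1', hφ7'⟩ := Sym.exists_15
  have hf35 : (35 : ℕ).factorization 5 = 1 := by
    have h : (35 : ℕ) = 5 * 7 := by norm_num
    rw [h, Nat.factorization_mul (by norm_num) (by norm_num), Finsupp.add_apply,
      (by norm_num : Nat.Prime 5).factorization_self, Nat.factorization_eq_zero_of_not_dvd (by norm_num)]
  have hf15 : (15 : ℕ).factorization 5 = 1 := by
    have h : (15 : ℕ) = 5 * 3 := by norm_num
    rw [h, Nat.factorization_mul (by norm_num) (by norm_num), Finsupp.add_apply,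
      (by norm_num : Nat.Prime 5).factorization_self, Nat.factorization_eq_zero_of_not_dvd (by norm_num)]
  obtain ⟨B, A, δ, e, h1, h2, h3, h4, h5, h6, h7⟩ := hL.exists_rel hM hx (by norm_num)
    ⟨_, isIrr_comp f hfs φ.2⟩ (by
      rw [fact5 hx hL]
      show 2 ≤ (charDegree ((φ : Equiv.Perm (Fin 7) → ℂ) ∘ f)).factorization 5 + 1
      rw [hdegf φ 35 (by rw [hφ1]; norm_num), hf35])
  obtain ⟨B', A', δ', e', k1, k2, k3, k4, k5, k6, k7⟩ := hL.exists_rel hM hx (by norm_num)
    ⟨_, isIrr_comp f hfs φ'.2⟩ (by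
      rw [fact5 hx hL]
      show 2 ≤ (charDegree ((φ' : Equiv.Perm (Fin 7) → ℂ) ∘ f)).factorization 5 + 1
      rw [hdegf φ' 15 (by rw [hφ1']; norm_num), hf15])
  have hodd : ∀ e : ℕ, e ∣ 5 - 1 → e ≠ 1 → Odd (e + 1) := by
    intro e he he1
    have h8 : e ≤ 4 := Nat.le_of_dvd (by norm_num) he
    interval_cases e
    · exact absurd he (by decide)
    · exact absurd rfl he1
    · decide
    · exact absurd he (by decide)
    · decide
  have hdvd : ∀ {B : Set (IrrCharacter Fi23)}, IsPBlock M B → IsDefectGroup 5 M B (zpowers x) → ∀ χ ∈ B,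
      5 ∣ charDegree (χ : Fi23 → ℂ) := by
    intro B hB hD χ hχ
    have h8 := H592.Defect.le_degree_add 5 hM hB hD hχ
    rw [factG, Nat.card_zpowers, hx, (by norm_num : Nat.Prime 5).factorization_self] at h8
    exact ((by norm_num : Nat.Prime 5).dvd_iff_one_le_factorization (charDegree_pos χ.2).ne').2 (by omega)
  -- the induced central characters
  have hz : ∀ y : Fi23, orderOf y = 7 → ∀ χ ∈ B, MemLocalIdeal M (centralChar (χ : Fi23 → ℂ) y) := by
    intro y hy χ hχ
    have h8 := h1.2.2 _ (mem_blockOf_self _) χ hχ y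
    have h9 : inducedCentralChar (centralizer ((zpowers x : Subgroup Fi23) : Set Fi23))
        ((φ : Equiv.Perm (Fin 7) → ℂ) ∘ f) y = 0 := by
      unfold inducedCentralChar
      apply finsum_mem_eq_zero_of_forall_eq_zero
      intro h hh
      have ho : orderOf h = 7 := by
        rw [← Subgroup.orderOf_coe]
        obtain ⟨g, hg⟩ := isConj_iff.1 hh
        rw [← hg, ← hy]
        exact (MulAut.conj g).orderOf_eq y
      rw [Function.comp_apply, hφ7 _ (order_f hx hf ho), zero_div]
    have h10 : inducedCentralChar (centralizer ((zpowers x : Subgroup Fi23) : Set Fi23))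
        ((⟨_, isIrr_comp f hfs φ.2⟩ : IrrCharacter _) :
          ↥(centralizer ((zpowers x : Subgroup Fi23) : Set Fi23)) → ℂ) y = 0 := h9
    rw [h10, zero_sub] at h8
    exact memLocalIdeal_neg_iff.1 h8
  refine ⟨A, A', δ, δ', h7, k7, by rw [h4]; exact hodd e h5 h6, by rw [k4]; exact hodd e' k5 k6, ?_,
    fun χ hχ => hdvd h1.2.1 h2 χ (h3 χ hχ), fun χ hχ => hdvd k1.2.1 k2 χ (k3 χ hχ), ?_⟩
  · rw [Finset.disjoint_left]
    intro χ hχ hχ'
    obtain ⟨y, hy⟩ := exists_prime_orderOf_dvd_card' (G := Fi23) 7 (by rw [cardG]; norm_num)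
    have h8 := hz y hy χ (h3 χ hχ)
    have h9 := k1.2.2 _ (mem_blockOf_self _) χ (k3 χ hχ') y
    have h10 := memLocalIdeal_add h9 h8
    rw [sub_add_cancel] at h10
    set N := {h : ↥(centralizer ((zpowers x : Subgroup Fi23) : Set Fi23)) | IsConj y (h : Fi23)}.ncard with hN
    have h11 : inducedCentralChar (centralizer ((zpowers x : Subgroup Fi23) : Set Fi23))
        ((⟨_, isIrr_comp f hfs φ'.2⟩ : IrrCharacter _) :
          ↥(centralizer ((zpowers x : Subgroup Fi23) : Set Fi23)) → ℂ) y = (N : ℂ) / 15 := by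
      unfold inducedCentralChar
      have hfin : {h : ↥(centralizer ((zpowers x : Subgroup Fi23) : Set Fi23)) | IsConj y (h : Fi23)}.Finite :=
        Set.toFinite _
      rw [finsum_mem_eq_finite_toFinset_sum _ hfin, hN, Set.ncard_eq_toFinset_card _ hfin]
      rw [Finset.sum_congr rfl (g := fun _ => (1 / 15 : ℂ)), Finset.sum_const, nsmul_eq_mul]
      · ring
      · intro h hh
        have ho : orderOf h = 7 := by
          rw [← Subgroup.orderOf_coe]
          obtain ⟨g, hg⟩ := isConj_iff.1 (hfin.mem_toFinset.1 hh)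
          rw [← hg, ← hy]
          exact (MulAut.conj g).orderOf_eq y
        show ((φ' : Equiv.Perm (Fin 7) → ℂ) ∘ f) h / ((φ' : Equiv.Perm (Fin 7) → ℂ) ∘ f) 1 = 1 / 15
        rw [Function.comp_apply, Function.comp_apply, map_one, hφ7' _ (order_f hx hf ho), hφ1']
    rw [h11] at h10
    have h12 : (5 : ℕ) ∣ N := by
      rw [← memLocalIdeal_natCast_iff hM]
      have h13 := memLocalIdeal_mul_right h10 (memLocalRing_natCast (M := M) 15)
      have h14 : (N : ℂ) / 15 * ((15 : ℕ) : ℂ) = N := by push_cast; field_simp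
      rwa [h14] at h13
    obtain ⟨m, hm⟩ := h12
    have h15 : (5 : ℕ) ∣ m := by
      rw [← memLocalIdeal_natCast_iff hM]
      have h13 := memLocalIdeal_mul_right h10 (memLocalRing_natCast (M := M) 3)
      have h14 : (N : ℂ) / 15 * ((3 : ℕ) : ℂ) = m := by rw [hm]; push_cast; ring
      rwa [h14] at h13
    apply card_conj rfl hx (card5 hx hL) hfs hf (fun c hc => order_f hx hf hc) hy
    rw [← hN, hm]
    obtain ⟨k, rfl⟩ := h15
    exact ⟨k, by ring⟩
  · intro χ hχ y hy w hw
    exact_mod_cast dvd_of_centralChar hM hw (idx7 hy) (by norm_num) (hdvd h1.2.1 h2 χ (h3 χ hχ))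
      (hz y hy χ (h3 χ hχ))

end Cfsg.Agent.H678.DG.FiBlk
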