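import Cfsg.Agent.H678.DG.Basic
import Cfsg.Agent.H678.DG.FiTwo
import Cfsg.Agent.H678.DG.FiPts

/-!
# Degree graph facts for `Fi₂₃` (helper678)

Degrees 782 = 2.17.23, 30888 = 2^3.3^3.11.13, 106743 = 3.7.13.17.23 (rank 3 actions), and degrees divisible by 35, 85,
115 (5-blocks with a defect group of order 5).
-/

set_option autoImplicit false
set_option maxRecDepth 100000

namespace Cfsg.Agent.H678.DG.FiBlk

open Cfsg Subgroup Cfsg.Agent.H671.H5
open Cfsg.Agent.Characters.Core
open Cfsg.Agent.Lib.PermNet Cfsg.Agent.Fischer.Fi23Hom Cfsg.Agent.LThreeFi23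
open Cfsg.Agent.H839.Fi23
open Cfsg.Agent.H653.Sieve
open Cfsg.Spor (Fi23)

universe u

instance f17 : Fact (Nat.Prime 17) := ⟨by norm_num⟩
instance f23 : Fact (Nat.Prime 23) := ⟨by norm_num⟩

theorem im_35 : IM 35 Fi23 := by
  classical
  obtain ⟨A, -, δ, -, hR, -, ho, -, -, h5, -, h7⟩ := two_blocks
  obtain ⟨P⟩ : Nonempty (Sylow 7 Fi23) := inferInstance
  have hP : Nat.card P = 7 := SmallSimple.PrimeLocal.card_of_not_sq_dvd (by rw [cardG]; norm_num)
    (by rw [cardG]; norm_num) P
  choose w hw hw5 using fun χ => val7 P hP χ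
  obtain ⟨y, hy, hy1⟩ := SmallSimple.ThetaSetup.exists_ne_one (P := (P : Subgroup Fi23)) hP
  have hyo : orderOf y = 7 := Blocks.CyclicOrtho.orderOf_eq P hP hy hy1
  have hsum : ∑ χ ∈ A, δ χ * w χ = 0 := by
    have h1 := hR.rel y (by rw [hyo]; norm_num)
    rw [Finset.sum_congr rfl fun χ _ => by rw [hw χ y hy hy1]] at h1
    exact_mod_cast h1
  obtain ⟨χ, hχ, h0⟩ := hR.exists_zero ho hsum (w := 5) (by norm_num) fun χ hχ =>
    hw5 χ (h7 χ hχ y hyo _ (hw χ y hy hy1))
  have h1 : 7 ∣ charDegree (χ : Fi23 → ℂ) := dvd_of_zero (P := (P : Subgroup Fi23)) hP fun x hx hx1 => by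
    rw [hw χ x hx hx1, h0]; simp
  exact ⟨χ, Nat.Coprime.mul_dvd_of_dvd_of_dvd (by norm_num) (h5 χ hχ) h1⟩

theorem reg {q : ℕ} [Fact q.Prime] (h : ¬ 5 ∣ q) {P : Sylow q Fi23} (hP : Nat.card P = q) :
    ∀ x ∈ (P : Subgroup Fi23), ¬ 5 ∣ orderOf x := by
  intro x hx h5
  by_cases hx1 : x = 1
  · rw [hx1, orderOf_one] at h5
    exact absurd h5 (by decide)
  · rw [Blocks.CyclicOrtho.orderOf_eq P hP hx hx1] at h5
    exact h h5

theorem not_comm : ¬ IsMulCommutative Fi23 := by
  intro h
  have h1 : Nat.card (centralizer ({elw y17} : Set Fi23)) = 17 := by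
    rw [H870.IMLocal.centralizer_zpowers, self_cent17, card_y17]
  have h2 : centralizer ({elw y17} : Set Fi23) = ⊤ := by
    rw [eq_top_iff]
    intro g _
    rw [mem_centralizer_singleton_iff]
    exact mul_comm' g (elw y17)
  rw [h2, Subgroup.card_top, cardG] at h1
  exact absurd h1 (by norm_num)

theorem im_85 : IM 85 Fi23 := by
  classical
  have := S1697.result.1
  have hna := not_comm
  have : Finite (IrrCharacter Fi23) := finite_irr
  have := Fintype.ofFinite (IrrCharacter Fi23)
  obtain ⟨A, -, δ, -, hR, -, ho, -, -, h5, -, -⟩ := two_blocks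
  have hy : orderOf (elw y17) = 17 := orderOf_eq_prime pow17 y17_ne
  have hc : Nat.card (centralizer ({elw y17} : Set Fi23)) = 17 * 1 := by
    rw [H870.IMLocal.centralizer_zpowers, self_cent17, card_y17]
  obtain ⟨P, W, hP, he, hcol, hok⟩ := exists_col hna cardG hy hc 16 1 [(0, 0), (1, 1), (16, -1)] 0 false
    (by decide +kernel)
  obtain ⟨χ, hχ, h0⟩ := hR.exists_zero ho (hR.col (reg (by decide) hP) he hcol) (w := 1) (by norm_num) fun χ _ => by
    have h1 := hok.mem χ
    simp only [List.mem_cons, Prod.mk.injEq, List.not_mem_nil, or_false] at h1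
    tauto
  have h1 : 17 ∣ charDegree (χ : Fi23 → ℂ) := by
    have h2 := hok.mem χ
    rw [h0] at h2
    simp only [List.mem_cons, Prod.mk.injEq, List.not_mem_nil, or_false] at h2
    apply Nat.dvd_of_mod_eq_zero
    rcases h2 with h2 | h2 | h2
    · exact h2.1
    · exact absurd h2.2 (by decide)
    · exact absurd h2.2 (by decide)
  exact ⟨χ, Nat.Coprime.mul_dvd_of_dvd_of_dvd (by norm_num) (h5 χ hχ) h1⟩

theorem im_115 : IM 115 Fi23 := by
  classical
  have := S1697.result.1
  have hna := not_comm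
  have : Finite (IrrCharacter Fi23) := finite_irr
  have := Fintype.ofFinite (IrrCharacter Fi23)
  obtain ⟨A, A', δ, δ', hR, hR', ho, ho', hdis, h5, h5', -⟩ := two_blocks
  have hy : orderOf (elw y23) = 23 := orderOf_eq_prime pow23 y23_ne
  have hc : Nat.card (centralizer ({elw y23} : Set Fi23)) = 23 * 1 := by
    rw [H870.IMLocal.centralizer_zpowers, self_cent23, card_y23]
  obtain ⟨P, W, hP, he, hcol, hok⟩ := exists_col hna cardG hy hc 11 2 [(0, 0), (1, 2), (22, -2), (12, 1), (11, -1)] 2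
    true (by decide +kernel)
  have hs := hR.col (reg (by decide) hP) he hcol
  have hs' := hR'.col (reg (by decide) hP) he hcol
  have hval : ∀ χ, W χ = 0 ∨ W χ = 2 ∨ W χ = -2 ∨ W χ = 1 ∨ W χ = -1 := by
    intro χ
    have h1 := hok.mem χ
    simp only [List.mem_cons, Prod.mk.injEq, List.not_mem_nil, or_false] at h1
    tauto
  -- the exceptional characters
  have hcnt : ((Finset.univ : Finset (IrrCharacter Fi23)).filter fun χ => Odd (W χ)).card = 2 := by
    have h1 : ∑ χ : IrrCharacter Fi23, (bif Nat.beq (W χ).natAbs 1 then (1 : ℤ) else 0) = 2 := hok.cnt rfl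
    have h2 : ∀ χ : IrrCharacter Fi23, (bif Nat.beq (W χ).natAbs 1 then (1 : ℤ) else 0) =
        if Odd (W χ) then 1 else 0 := by
      intro χ
      rcases hval χ with h | h | h | h | h <;> rw [h]
      · rw [if_neg (by decide)]; rfl
      · rw [if_neg (by decide)]; rfl
      · rw [if_neg (by decide)]; rfl
      · rw [if_pos (by decide)]; rfl
      · rw [if_pos (by decide)]; rfl
    rw [Finset.sum_congr rfl fun χ _ => h2 χ, Finset.sum_boole] at h1
    exact_mod_cast h1
  have hle : (A.filter fun χ => Odd (W χ)).card + (A'.filter fun χ => Odd (W χ)).card ≤ 2 := by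
    rw [← hcnt, ← Finset.card_union_of_disjoint (Finset.disjoint_filter_filter hdis)]
    apply Finset.card_le_card
    intro χ hχ
    rw [Finset.mem_filter]
    refine ⟨Finset.mem_univ _, ?_⟩
    rcases Finset.mem_union.1 hχ with h | h
    · exact (Finset.mem_filter.1 h).2
    · exact (Finset.mem_filter.1 h).2
  have key : ∀ {B : Finset (IrrCharacter Fi23)} {ε : IrrCharacter Fi23 → ℤ}, Rel 5 B ε → Odd B.card →
      ∑ χ ∈ B, ε χ * W χ = 0 → (∀ χ ∈ B, 5 ∣ charDegree (χ : Fi23 → ℂ)) →
      (B.filter fun χ => Odd (W χ)).card = 0 → IM 115 Fi23 := by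
    intro B ε hB hBo hBs hB5 h0
    rw [Finset.card_eq_zero, Finset.filter_eq_empty_iff] at h0
    obtain ⟨χ, hχ, h0⟩ := hB.exists_zero hBo hBs (w := 2) (by norm_num) fun χ hχ => by
      have h1 := h0 hχ
      rcases hval χ with h | h | h | h | h
      · exact Or.inl h
      · exact Or.inr (Or.inl h)
      · exact Or.inr (Or.inr h)
      · exact absurd (by rw [h]; decide) h1
      · exact absurd (by rw [h]; decide) h1
    have h1 : 23 ∣ charDegree (χ : Fi23 → ℂ) := by
      have h2 := hok.mem χ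
      rw [h0] at h2
      simp only [List.mem_cons, Prod.mk.injEq, List.not_mem_nil, or_false] at h2
      apply Nat.dvd_of_mod_eq_zero
      rcases h2 with h2 | h2 | h2 | h2 | h2
      · exact h2.1
      · exact absurd h2.2 (by decide)
      · exact absurd h2.2 (by decide)
      · exact absurd h2.2 (by decide)
      · exact absurd h2.2 (by decide)
    exact ⟨χ, Nat.Coprime.mul_dvd_of_dvd_of_dvd (by norm_num) (hB5 χ hχ) h1⟩
  have e1 := hR.even_card hs
  have e2 := hR'.even_card hs'
  by_cases h0 : (A.filter fun χ => Odd (W χ)).card = 0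
  · exact key hR ho hs h5 h0
  · refine key hR' ho' hs' h5' ?_
    obtain ⟨a, ha⟩ := e1
    obtain ⟨b, hb⟩ := e2
    omega

/-- **The degree graph of `Fi₂₃`.** -/
theorem facts_fi23 {S : Type u} [Group S] (h : Spor.IsoFi23 S) : Facts S := by
  obtain ⟨e⟩ := h
  refine Facts.of_equiv e ?_
  have h0 : Spor.IsoFi23 Fi23 := ⟨MulEquiv.refl _⟩
  refine Facts.of_list (P := [5, 7, 11, 2, 3, 13, 17, 23]) (D := [35, 85, 115, 782, 30888, 106743]) ?_ (by decide)
    (mem_of_card (f := fun _ => 18) ?_ ?_) ?_ (by decide +kernel)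
  · intro p hp; fin_cases hp <;> norm_num
  · rw [cardG]; decide +kernel
  · intro p hp; fin_cases hp <;> norm_num
  · have key : ∀ {d : ℕ}, H672.SporIM.HasDeg Fi23 d → IM d Fi23 := by
      rintro d ⟨χ, hχ⟩
      exact ⟨χ, by rw [hχ]⟩
    intro m hm
    simp only [List.mem_cons, List.not_mem_nil, or_false] at hm
    rcases hm with rfl | rfl | rfl | rfl | rfl | rfl
    · exact im_35
    · exact im_85
    · exact im_115
    · exact key (H672.SporIM.fi23 h0).2
    · exact key (H672.SporIM.fi23 h0).1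
    · exact key (FiPts.im_fi23 h0)

end Cfsg.Agent.H678.DG.FiBlk
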