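import Cfsg.Agent.H678.DG.Basic
import Cfsg.Agent.H678.DG.HSDeg

/-!
# Degree graph facts for the Higman-Sims group (helper678)

Degrees 770 and 1056.
-/

set_option autoImplicit false

namespace Cfsg.Agent.H678.DG.HS

open Cfsg Cfsg.Agent.HN Cfsg.Agent.HN.HS100

universe u

/-- The degree graph of `HS`. -/
theorem facts_hs {S : Type u} [Group S] (h : Spor.IsoHS S) : Facts S := by
  obtain ⟨e⟩ := h
  obtain ⟨⟨f⟩, -⟩ := AutHS.nonempty_Q
  have hc := AutBound.card_Q
  refine Facts.of_equiv (e.trans f.symm) ?_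
  refine Facts.of_list (P := [3, 5, 7, 11, 2]) (D := [770, 1056]) ?_ (by decide)
    (mem_of_card (f := fun _ => 9) ?_ ?_) ?_ (by decide +kernel)
  · intro p hp; fin_cases hp <;> norm_num
  · rw [hc]; decide +kernel
  · intro p hp; fin_cases hp <;> norm_num
  · intro m hm
    simp only [List.mem_cons, List.not_mem_nil, or_false] at hm
    rcases hm with rfl | rfl
    · obtain ⟨χ, hχ⟩ := HSDeg.deg_770
      exact ⟨χ, by rw [hχ]⟩
    · obtain ⟨χ, hχ⟩ := HSDeg.deg_1056
      exact ⟨χ, by rw [hχ]⟩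

end Cfsg.Agent.H678.DG.HS
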