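import Cfsg.Agent.H678.DG.Basic

/-!
# Edges of the degree graph from residues of degrees (helper678)
-/

set_option autoImplicit false

namespace Cfsg.Agent.H678.DG

open Cfsg Cfsg.Agent.H671.H5

universe u

/-- If some degree is divisible by `r` and no power of `r` is a possible degree then `r` is joined to another prime. -/
theorem exists_edge {G : Type u} [Group G] [Finite G] {r : ℕ} (hr : r.Prime) (hIM : IM r G) (P : ℕ → Prop)
    (hP : ∀ χ : IrrCharacter G, P (charDegree (χ : G → ℂ))) (a : ℕ) (hno : ∀ i, 1 ≤ i → i ≤ a → ¬ P (r ^ i))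
    (Q : List ℕ) (hQ : ∀ q, q.Prime → q ∣ Nat.card G → q = r ∨ q ∈ Q) (hra : ¬ r ^ (a + 1) ∣ Nat.card G) :
    ∃ q ∈ Q, q.Prime ∧ IM (r * q) G := by
  obtain ⟨χ, hχ⟩ := hIM
  set d := charDegree (χ : G → ℂ) with hd
  have hdG : d ∣ Nat.card G := Cfsg.Agent.Blocks.Knorr.charDegree_dvd χ.2
  by_contra hcon
  push Not at hcon
  have hall : ∀ q, q.Prime → q ∣ d → q = r := by
    intro q hq hqd
    by_contra hne
    have h1 : q ∈ Q := (hQ q hq (hqd.trans hdG)).resolve_left hne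
    refine hcon q h1 hq ⟨χ, ?_⟩
    exact Nat.Coprime.mul_dvd_of_dvd_of_dvd ((Nat.coprime_primes hr hq).2 (Ne.symm hne)) hχ hqd
  have hd0 : d ≠ 0 := by
    rintro h0
    rw [h0] at hdG
    exact Nat.card_pos.ne' (Nat.eq_zero_of_zero_dvd hdG)
  obtain ⟨i, hi⟩ : ∃ i, d = r ^ i := ⟨_, Nat.eq_prime_pow_of_unique_prime_dvd hd0 (fun {q} hq hqd => hall q hq hqd)⟩
  have hi1 : 1 ≤ i := by
    rcases Nat.eq_zero_or_pos i with h0 | h0
    · rw [hi, h0, pow_zero] at hχ
      exact absurd (Nat.dvd_one.1 hχ) hr.ne_one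
    · exact h0
  have hia : i ≤ a := by
    by_contra hlt
    exact hra ((pow_dvd_pow r (by omega)).trans (hi ▸ hdG))
  exact hno i hi1 hia (hi ▸ hP χ)

end Cfsg.Agent.H678.DG
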