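import Cfsg.Agent.H678.DG.HeDegB
import Cfsg.Agent.H678.DG.ResEdge
import Cfsg.Agent.H492.IMHe
import Cfsg.Agent.H653.Sieve.Col

/-!
# Degree graph facts for the Held group (helper678)

Degrees 680, 1275, 1920; some degree is divisible by 7 and degrees are congruent to 0, ±1, ±8 modulo 17, so 7 is
joined to another prime.
-/

set_option autoImplicit false

namespace Cfsg.Agent.H678.DG.He

open Cfsg Cfsg.Agent.H671.H5 Cfsg.Agent.H492.IMHe

universe u

theorem primes_he {q : ℕ} (hq : q.Prime) (h : q ∣ 4030387200) : q = 7 ∨ q ∈ [2, 3, 5, 17] := by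
  rw [show (4030387200 : ℕ) = 2 ^ 10 * 3 ^ 3 * 5 ^ 2 * 7 ^ 3 * 17 by norm_num] at h
  have h2 : ∀ r n : ℕ, r.Prime → q ∣ r ^ n → q = r := fun r n hr h =>
    (Nat.prime_dvd_prime_iff_eq hq hr).1 (hq.dvd_of_dvd_pow h)
  simp only [hq.dvd_mul] at h
  rcases h with (((h | h) | h) | h) | h
  · exact Or.inr (by rw [h2 2 _ (by norm_num) h]; simp)
  · exact Or.inr (by rw [h2 3 _ (by norm_num) h]; simp)
  · exact Or.inr (by rw [h2 5 _ (by norm_num) h]; simp)
  · exact Or.inl (h2 7 _ (by norm_num) h)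
  · exact Or.inr (by rw [h2 17 1 (by norm_num) (by rwa [pow_one])]; simp)

/-- 7 is joined to another prime. -/
theorem edge_seven : ∃ q ∈ [2, 3, 5, 17], q.Prime ∧ IM (7 * q) Cfsg.Spor.He := by
  classical
  have hc := HeDegA.card_he
  have : Finite Cfsg.Spor.He := Nat.finite_of_card_ne_zero (by rw [hc]; norm_num)
  have := Cfsg.Agent.Characters.Core.finite_irr (G := Cfsg.Spor.He)
  have := Fintype.ofFinite (IrrCharacter Cfsg.Spor.He)
  have hs : IsSimpleGroup Cfsg.Spor.He := (SporadicB.HePerm.isHe_of_card_le hc.le).1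
  have hnc : ¬ IsMulCommutative Cfsg.Spor.He := by
    intro h
    have h1 := card17
    have h2 : Subgroup.centralizer ({SporadicB.HePerm.wd [.f, .d, .c, .b]} : Set Cfsg.Spor.He) = ⊤ := by
      rw [eq_top_iff]
      intro g _
      exact Subgroup.mem_centralizer_singleton_iff.2 (h.is_comm.comm _ _)
    rw [h2, Subgroup.card_top, hc] at h1
    exact absurd h1 (by norm_num)
  have : Fact (Nat.Prime 17) := ⟨by norm_num⟩
  obtain ⟨P, W, -, -, -, hW⟩ := H653.Sieve.exists_col hnc hc o17 (k := 1) card17 8 2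
    [(0, 0), (1, 2), (16, -2), (8, -1), (9, 1)] 2 true (by decide +kernel)
  refine exists_edge (by norm_num) im7 (fun d => d % 17 = 0 ∨ d % 17 = 1 ∨ d % 17 = 16 ∨ d % 17 = 8 ∨ d % 17 = 9) ?_ 3 ?_
    [2, 3, 5, 17] ?_ ?_
  · intro χ
    have h1 := hW.mem χ
    simp only [List.mem_cons, Prod.mk.injEq, List.not_mem_nil, or_false] at h1
    have h2 : H653.Sieve.deg χ = charDegree (χ : Cfsg.Spor.He → ℂ) := rfl
    rw [h2] at h1
    tauto
  · intro i h1 h2
    interval_cases i <;> norm_num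
  · intro q hq h
    rw [hc] at h
    exact primes_he hq h
  · rw [hc]
    norm_num

theorem im_of {G : Type*} [Group G] {d : ℕ} (h : ∃ χ : IrrCharacter G, charDegree (χ : G → ℂ) = d) : IM d G := by
  obtain ⟨χ, hχ⟩ := h
  exact ⟨χ, by rw [hχ]⟩

/-- The degree graph of the Held group. -/
theorem facts_he {S : Type u} [Group S] (h : Spor.IsoHe S) : Facts S := by
  obtain ⟨e⟩ := h
  refine Facts.of_equiv e ?_
  have hc := HeDegA.card_he
  have : Finite Cfsg.Spor.He := Nat.finite_of_card_ne_zero (by rw [hc]; norm_num)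
  obtain ⟨q, hq, -, h7⟩ := edge_seven
  refine Facts.of_list (P := [7, 2, 3, 5, 17]) (D := [7 * q, 680, 1275, 1920]) ?_ (by decide)
    (mem_of_card (f := fun _ => 10) ?_ ?_) ?_ ?_
  · intro p hp; fin_cases hp <;> norm_num
  · rw [hc]; decide +kernel
  · intro p hp; fin_cases hp <;> norm_num
  · intro m hm
    simp only [List.mem_cons, List.not_mem_nil, or_false] at hm
    rcases hm with rfl | rfl | rfl | rfl
    · exact h7
    · exact im_of HeDegA.deg_680
    · exact im_of HeDegA.deg_1275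
    · exact im_of HeDegB.deg_1920
  · simp only [List.mem_cons, List.not_mem_nil, or_false] at hq
    rcases hq with rfl | rfl | rfl | rfl <;> decide +kernel

end Cfsg.Agent.H678.DG.He
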