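import Cfsg.Agent.H600.AltFix
import Cfsg.Agent.H621.AltChar
import Cfsg.Agent.H692.RealOver
import Cfsg.Agent.SmallSimple.DegreeData

/-!
# Two characters of `S₇` and the degrees of `S₅` divisible by 5 (helper678)
-/

set_option autoImplicit false

namespace Cfsg.Agent.H678.DG.Sym

open Cfsg Equiv Cfsg.Agent.Characters.Core

/-- degree 35, zero at the 7-cycles -/
theorem exists_35 : ∃ φ : IrrCharacter (Perm (Fin 7)), (φ : Perm (Fin 7) → ℂ) 1 = 35 ∧
    ∀ c : Perm (Fin 7), orderOf c = 7 → (φ : Perm (Fin 7) → ℂ) c = 0 := by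
  obtain ⟨χ, hχ, h1, -⟩ := H600.AltDeg.exists_sym (n := 7) (a := 1) (b := 3) (c := 6) (by decide) (by decide)
    (by decide) (by decide)
  have h2 := H600.AltDeg.dg_formula (n := 7) (a := 1) (b := 3) (c := 6) (by decide) (by decide) (by decide)
  have h3 : H600.AltDeg.dg 7 1 3 6 = 35 := by
    have e1 : Nat.factorial 1 * Nat.factorial 3 * Nat.factorial 6 = 4320 := by decide +kernel
    have e2 : Nat.factorial 7 * ((3 - 1) * (6 - 1) * (6 - 3)) = 151200 := by decide +kernel
    rw [e1, e2] at h2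
    exact Nat.eq_of_mul_eq_mul_right (by norm_num : 0 < 4320) h2
  have h4 : χ 1 = 35 := by rw [h1, h3]; norm_num
  refine ⟨⟨χ, hχ⟩, h4, fun c hc => ?_⟩
  have h7 : Nat.card (Perm (Fin 7)) = 5040 := by rw [Nat.card_eq_fintype_card, Fintype.card_perm]; decide +kernel
  have hf : (Nat.card (Perm (Fin 7))).factorization 7 = 1 := by
    rw [h7]
    have : (5040 : ℕ) = 7 * 720 := by norm_num
    rw [this, Nat.factorization_mul (by norm_num) (by norm_num), Finsupp.add_apply,
      (by norm_num : Nat.Prime 7).factorization_self, Nat.factorization_eq_zero_of_not_dvd (by norm_num)]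
  have hd : charDegree χ = 35 := by unfold charDegree; rw [h4]; simp
  exact H692.RealOver.defect_zero_vanish hχ 7 (by norm_num) (by rw [hf, hd]; norm_num) (x := c) (by rw [hc])

theorem cycleType_seven {c : Perm (Fin 7)} (hc : orderOf c = 7) : c.cycleType = {7} := by
  obtain ⟨n, hn⟩ := Perm.cycleType_prime_order (σ := c) (by rw [hc]; norm_num)
  rw [hc] at hn
  have h1 := Perm.sum_cycleType c
  have h2 : c.support.card ≤ 7 := by
    have := Finset.card_le_univ c.support
    simpa using this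
  rw [hn, Multiset.sum_replicate, smul_eq_mul] at h1
  have h3 : n = 0 := by omega
  rw [hn, h3]
  rfl

theorem isConj_seven {c d : Perm (Fin 7)} (hc : orderOf c = 7) (hd : orderOf d = 7) : IsConj c d := by
  rw [Perm.isConj_iff_cycleType_eq, cycleType_seven hc, cycleType_seven hd]

theorem nf_seven {c : Perm (Fin 7)} (hc : orderOf c = 7) : H621.AltChar.nf (Fin 7) c = 0 := by
  have h1 := Perm.sum_cycleType c
  rw [cycleType_seven hc, Multiset.sum_singleton] at h1
  have h2 : c.support = Finset.univ := by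
    rw [← Finset.card_eq_iff_eq_univ, ← h1]
    simp
  unfold H621.AltChar.nf
  have : IsEmpty (H621.AltChar.FF (Fin 7) c) := by
    refine ⟨?_⟩
    rintro ⟨a, ha⟩
    have h3 : a ∈ c.support := by rw [h2]; exact Finset.mem_univ _
    rw [Perm.mem_support] at h3
    exact h3 ha
  exact Nat.card_of_isEmpty

/-- degree 15, one at the 7-cycles -/
theorem exists_15 : ∃ φ : IrrCharacter (Perm (Fin 7)), (φ : Perm (Fin 7) → ℂ) 1 = 15 ∧
    ∀ c : Perm (Fin 7), orderOf c = 7 → (φ : Perm (Fin 7) → ℂ) c = 1 := by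
  have h := H621.AltChar.irr_b (G := Perm (Fin 7)) (Ω := Fin 7) (by simp) (by
    exact Perm.isMultiplyPretransitive (Fin 7) 4)
  refine ⟨⟨_, h⟩, ?_, fun c hc => ?_⟩
  · have h1 : H621.AltChar.nf (Fin 7) (1 : Perm (Fin 7)) = 7 := by
      rw [H621.AltChar.nf_one]; simp
    have h2 : H621.AltChar.nu (Fin 7) (1 : Perm (Fin 7)) = 0 := H621.AltChar.nu_one _ _
    show ((H621.AltChar.nf (Fin 7) (1 : Perm (Fin 7)) : ℂ) ^ 2 - 3 * H621.AltChar.nf (Fin 7) (1 : Perm (Fin 7))
      + 2 - H621.AltChar.nu (Fin 7) (1 : Perm (Fin 7))) / 2 = _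
    rw [h1, h2]
    norm_num
  · have h1 := nf_seven hc
    have hcc : orderOf (c * c) = 7 := by
      rw [← pow_two, orderOf_pow' c (by norm_num), hc]
      decide
    have h2 := H621.AltChar.nf_mul_self (Ω := Fin 7) c
    rw [nf_seven hcc, h1] at h2
    have h3 : H621.AltChar.nu (Fin 7) c = 0 := by omega
    show ((H621.AltChar.nf (Fin 7) c : ℂ) ^ 2 - 3 * H621.AltChar.nf (Fin 7) c
      + 2 - H621.AltChar.nu (Fin 7) c) / 2 = _
    rw [h1, h3]
    norm_num

/-- the degrees of a group isomorphic to `S₅` divisible by 5 -/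
theorem eq_five {K : Type*} [Group K] [Finite K] (e : K ≃* Perm (Fin 5)) (θ : IrrCharacter K)
    (h5 : 5 ∣ charDegree (θ : K → ℂ)) : charDegree (θ : K → ℂ) = 5 := by
  classical
  have : Finite (IrrCharacter K) := finite_irr
  have := Fintype.ofFinite (IrrCharacter K)
  have h := H621.AltChar.irr_b (G := Perm (Fin 5)) (Ω := Fin 5) (by simp) (by
    exact Perm.isMultiplyPretransitive (Fin 5) 4)
  have h6 : ((H621.AltChar.nf (Fin 5) (1 : Perm (Fin 5)) : ℂ) ^ 2 - 3 * H621.AltChar.nf (Fin 5) (1 : Perm (Fin 5))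
      + 2 - H621.AltChar.nu (Fin 5) (1 : Perm (Fin 5))) / 2 = 6 := by
    have h1 : H621.AltChar.nf (Fin 5) (1 : Perm (Fin 5)) = 5 := by
      rw [H621.AltChar.nf_one]; simp
    have h2 : H621.AltChar.nu (Fin 5) (1 : Perm (Fin 5)) = 0 := H621.AltChar.nu_one _ _
    rw [h1, h2]
    norm_num
  let ψ : IrrCharacter K := ⟨_, isIrr_comp e.toMonoidHom e.surjective h⟩
  have hψ : charDegree (ψ : K → ℂ) = 6 := by
    have h7 : (ψ : K → ℂ) 1 = 6 := by
      rw [← h6]
      show (((H621.AltChar.nf (Fin 5) (e 1) : ℂ) ^ 2 - 3 * H621.AltChar.nf (Fin 5) (e 1)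
        + 2 - H621.AltChar.nu (Fin 5) (e 1)) / 2) = _
      rw [map_one]
    unfold charDegree
    rw [h7]
    simp
  have hK : Nat.card K = 120 := by
    rw [Nat.card_congr e.toEquiv, Nat.card_eq_fintype_card, Fintype.card_perm]; decide +kernel
  have hne : θ ≠ ψ := by
    rintro rfl
    rw [hψ] at h5
    exact absurd h5 (by decide)
  have hsum := SmallSimple.DegreeData.sum_sq (G := K)
  rw [hK] at hsum
  have h1 : ∑ χ ∈ ({θ, ψ} : Finset (IrrCharacter K)), charDegree (χ : K → ℂ) ^ 2 ≤ 120 := by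
    rw [← hsum]
    exact Finset.sum_le_sum_of_subset (Finset.subset_univ _)
  rw [Finset.sum_pair hne, hψ] at h1
  obtain ⟨m, hm⟩ := h5
  have hpos := Cfsg.Agent.Blocks.Basic.charDegree_pos θ.2
  rw [hm] at h1 hpos ⊢
  have h2 : m < 2 := by
    by_contra hcon
    push Not at hcon
    have : (5 * 2) ^ 2 ≤ (5 * m) ^ 2 := Nat.pow_le_pow_left (Nat.mul_le_mul_left 5 hcon) 2
    omega
  interval_cases m
  · simp at hpos
  · rfl

end Cfsg.Agent.H678.DG.Sym
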