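import Cfsg.Agent.H678.DG.NormLoc
import Cfsg.Agent.H678.DG.SymSeven
import Cfsg.Agent.H838.FiveMain
import Cfsg.Agent.H839.Seven
import Cfsg.Agent.H839.SeventeenMain
import Cfsg.Agent.Fischer.Fi23Simple

/-!
# The 5-blocks of `Fi₂₃` with a defect group of order 5 (helper678)

`C(5) = 5 × S₇`, `N(5) = 5:4 × S₇`: the characters of degree 35 and 15 of `S₇` give two 5-blocks with a defect group of
order 5. Parity in the sign relations at the elements of order 7, 17, 23 gives degrees divisible by 35, 85, 115.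
-/

set_option autoImplicit false
set_option maxRecDepth 100000

namespace Cfsg.Agent.H678.DG.FiBlk

open Cfsg Subgroup
open Cfsg.Agent.Characters.Core Cfsg.Agent.Blocks.Basic Cfsg.Agent.Blocks.Local
open Cfsg.Agent.Lib.PermNet Cfsg.Agent.Fischer.Fi23Hom Cfsg.Agent.LThreeFi23
open Cfsg.Agent.H838.Fi23 (DD five_main)
open Cfsg.Agent.H839.Fi23
open Cfsg.Agent.SmallSimple.ThetaSetup
open Cfsg.Agent.H653.Sieve
open Cfsg.Spor (Fi23)

theorem cardG : Nat.card Fi23 = 4089470473293004800 := card_G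

instance : Finite Fi23 := Nat.finite_of_card_ne_zero (by rw [cardG]; norm_num)

instance f5 : Fact (Nat.Prime 5) := ⟨by norm_num⟩
instance f7 : Fact (Nat.Prime 7) := ⟨by norm_num⟩

/-! ### Elements of order 7 -/

theorem q7_pow_conj (j : ℕ) : elw q7 ^ j * elw y7 * (elw q7 ^ j)⁻¹ = elw y7 ^ (3 ^ j) := by
  induction j with
  | zero => simp
  | succ j ih =>
    have h1 : elw q7 ^ (j + 1) * elw y7 * (elw q7 ^ (j + 1))⁻¹ =
        elw q7 * (elw q7 ^ j * elw y7 * (elw q7 ^ j)⁻¹) * (elw q7)⁻¹ := by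
      rw [pow_succ']; group
    rw [h1, ih, ← conj_pow, q7_conj, ← pow_mul, pow_succ']

theorem conj7 {y : Fi23} (hy : orderOf y = 7) : IsConj (elw y7) y := by
  have ho : orderOf (elw y7) = 7 := orderOf_eq_prime pow7 y7_ne
  obtain ⟨g, i, hg⟩ := conj_seven (y := y) (by rw [← hy]; exact pow_orderOf_eq_one y)
  have hi : ((i : ℤ) : ZMod 7) ≠ 0 := by
    intro h
    rw [ZMod.intCast_zmod_eq_zero_iff_dvd] at h
    obtain ⟨k, rfl⟩ := h
    have h1 : elw y7 ^ ((7 : ℕ) * k : ℤ) = 1 := by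
      rw [zpow_mul, zpow_natCast, pow7, one_zpow]
    rw [h1] at hg
    have h2 : y = 1 := by
      have h3 := congrArg (fun z => g⁻¹ * z * g) hg
      simpa [mul_assoc] using h3
    rw [h2, orderOf_one] at hy
    exact absurd hy (by decide)
  obtain ⟨j, -, hj⟩ := three_seven _ hi
  have h1 : elw y7 ^ i = elw y7 ^ (3 ^ j) := by
    rw [← zpow_natCast, zpow_eq_zpow_iff_modEq, ho]
    rw [← ZMod.intCast_eq_intCast_iff]
    rw [← hj]
    push_cast
    rfl
  have h2 : IsConj (elw y7) (elw y7 ^ i) := by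
    rw [h1, isConj_iff]
    exact ⟨_, q7_pow_conj j⟩
  have h3 : IsConj y (elw y7 ^ i) := isConj_iff.2 ⟨g, hg⟩
  exact h2.trans h3.symm

theorem isConj7 {y z : Fi23} (hy : orderOf y = 7) (hz : orderOf z = 7) : IsConj y z :=
  (conj7 hy).symm.trans (conj7 hz)

theorem le_cent7 {P : Subgroup Fi23} (hP : Nat.card P = 7) : P ≤ centralizer (P : Set Fi23) := by
  have h := isCyclic_of_prime_card hP
  intro x hx
  rw [mem_centralizer_iff]
  intro y hy
  exact congrArg Subtype.val ((IsCyclic.commGroup (α := P)).mul_comm ⟨y, hy⟩ ⟨x, hx⟩)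

/-- The value at the elements of order 7, if divisible by 5. -/
theorem val7 (P : Sylow 7 Fi23) (hP : Nat.card P = 7) (χ : IrrCharacter Fi23) :
    ∃ w : ℤ, (∀ x ∈ (P : Subgroup Fi23), x ≠ 1 → (χ : Fi23 → ℂ) x = w) ∧ (5 ∣ w → w = 0 ∨ w = 5 ∨ w = -5) := by
  obtain ⟨F, S, hL⟩ := exists_loc (seven_main (P : Subgroup Fi23) hP)
  have hX : (P : Subgroup Fi23) ≤ centralizer ((P : Subgroup Fi23) : Set Fi23) :=
    le_cent7 hP
  have hord : ∀ x ∈ (P : Subgroup Fi23), x ≠ 1 → orderOf x = 7 := fun x hx hx1 =>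
    Blocks.CyclicOrtho.orderOf_eq P hP hx hx1
  have hK : IsComp 7 (P : Subgroup Fi23) S := by
    intro y
    constructor
    · intro hy
      refine ⟨hL.leS hy, fun h => ?_⟩
      have h1 : orderOf y ∣ Nat.card S := by
        have := orderOf_dvd_natCard (⟨y, hy⟩ : S)
        rwa [← Subgroup.orderOf_coe] at this
      have h2 := h.trans h1
      rw [hL.cardS] at h2
      revert h2
      decide
    · rintro ⟨hy, hy7⟩
      exact hL.mem_S_of_reg hord hy hy7
  obtain ⟨w, hw, hw'⟩ := col_stable hP hK (fun n hn => by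
    obtain ⟨f, hf, s, hs, rfl⟩ := hL.exists_mul hn
    refine ⟨s, hs, fun y hy => ?_⟩
    have h1 : s * y * s⁻¹ ∈ S := S.mul_mem (S.mul_mem hs hy) (S.inv_mem hs)
    calc f * s * y * (f * s)⁻¹ = f * (s * y * s⁻¹) * f⁻¹ := by group
      _ = s * y * s⁻¹ := by rw [hL.comm f hf _ h1, mul_inv_cancel_right]) (hL.relIndex hX (by
        have h2 : Nat.card ((P : Subgroup Fi23)) = 7 := hP
        rw [h2])) χ
  refine ⟨w, hw, fun h5 => ?_⟩
  obtain ⟨e⟩ := hL.iso
  rcases hw' with h | ⟨θ, h | h⟩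
  · exact Or.inl h
  · right; left
    rw [h] at h5 ⊢
    rw [Sym.eq_five e θ (by exact_mod_cast h5)]
    rfl
  · right; right
    rw [h] at h5 ⊢
    rw [Sym.eq_five e θ (by rw [Int.dvd_neg] at h5; exact_mod_cast h5)]
    rfl

end Cfsg.Agent.H678.DG.FiBlk
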