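import Cfsg.Agent.H678.DG.Sph

/-!
# Degrees from an indexed orbit (helper678)

`deg_of_index` : the version of `Sph.exists_of_graph_rat` for an orbit `y 0, …, y (M - 1)` of `G` in an arbitrary
`G`-set.
-/

set_option autoImplicit false

namespace Cfsg.Agent.H678.DG.Idx

open Cfsg

universe u v

variable {G : Type u} [Group G] [Finite G] {Y : Type v} [MulAction G Y] {M n : ℕ}

/-- The orbit. -/
def Orb (y : Fin M → Y) : Type v := {x : Y // ∃ i, x = y i}

/-- The action on the orbit. -/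
@[reducible] def orbAct (y : Fin M → Y) (hcl : ∀ g : G, ∀ i, ∃ j, g • y i = y j) : MulAction G (Orb y) where
  smul g x := ⟨g • x.1, by
    obtain ⟨i, hi⟩ := x.2
    obtain ⟨j, hj⟩ := hcl g i
    exact ⟨j, by rw [hi, hj]⟩⟩
  one_smul x := Subtype.ext (one_smul G x.1)
  mul_smul g h x := Subtype.ext (mul_smul g h x.1)

/-- The indices. -/
noncomputable def eqv (y : Fin M → Y) (hinj : Function.Injective y) : Fin M ≃ Orb y :=
  Equiv.ofBijective (fun i => ⟨y i, i, rfl⟩) ⟨fun i j h => hinj (congrArg Subtype.val h), by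
    rintro ⟨x, i, rfl⟩
    exact ⟨i, rfl⟩⟩

theorem eqv_val (y : Fin M → Y) (hinj : Function.Injective y) (i : Fin M) : (eqv y hinj i).1 = y i := rfl

/-- **Degrees from an indexed orbit.** -/
theorem deg_of_index (y : Fin M → Y) (hinj : Function.Injective y) (i₀ : Fin M)
    (hcl : ∀ g : G, ∀ i, ∃ j, g • y i = y j) (htrG : ∀ i, ∃ g : G, g • y i₀ = y i)
    (K : Subgroup G) (hK : ∀ g ∈ K, g • y i₀ = y i₀) (cls : Fin M → Fin n) (r : Fin n → Fin M)
    (hcls : ∀ g ∈ K, ∀ i j, g • y i = y j → cls j = cls i)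
    (htr : ∀ i, ∃ g ∈ K, g • y (r (cls i)) = y i)
    (E : Y → Y → Bool) (hE : ∀ (g : G) x z, E (g • x) (g • z) = E x z) (B : Fin n → Fin n → ℕ)
    (hB : ∀ i j, (Finset.univ.filter fun k : Fin M => E (y (r i)) (y k) = true ∧ cls k = j).card = B i j)
    (kk : Fin n → ℕ) (hk : ∀ j, (Finset.univ.filter fun i => cls i = j).card = kk j) (c : Fin n) (hc : cls i₀ = c)
    (a : Fin n → ℚ) (t : ℚ) (L : Fin n → Fin n → ℚ) (d : ℕ)
    (ha : a c = 1) (hBa : ∀ i, ∑ j, (B i j : ℚ) * a j = t * a i)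
    (hL : ∀ i j, ∑ l, L i l * ((B l j : ℚ) - if l = j then t else 0) =
      (if i = j then 1 else 0) - if j = c then a i else 0)
    (hd : (d : ℚ) * ∑ j, (kk j : ℚ) * (a j * a j) = M) :
    ∃ χ : IrrCharacter G, charDegree (χ : G → ℂ) = d := by
  classical
  let act : MulAction G (Orb y) := orbAct y hcl
  let e := eqv y hinj
  let ft : Fintype (Orb y) := Fintype.ofEquiv _ e
  have hsm : ∀ (g : G) (x : Orb y), (g • x).1 = g • x.1 := fun _ _ => rfl
  have he : ∀ i, (e i).1 = y i := fun _ => rfl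
  have hes : ∀ x : Orb y, y (e.symm x) = x.1 := fun x => by rw [← he, e.apply_symm_apply]
  have htrans : MulAction.IsPretransitive G (Orb y) := by
    have key : ∀ x : Orb y, ∃ g : G, g • e i₀ = x := by
      intro x
      obtain ⟨g, hg⟩ := htrG (e.symm x)
      refine ⟨g, Subtype.ext ?_⟩
      rw [hsm, he, hg, hes]
    refine ⟨fun x z => ?_⟩
    obtain ⟨g, rfl⟩ := key x
    obtain ⟨h, rfl⟩ := key z
    exact ⟨h * g⁻¹, by rw [mul_smul, inv_smul_smul]⟩
  have hcard : Fintype.card (Orb y) = M := by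
    rw [Fintype.card_congr e.symm, Fintype.card_fin]
  refine Sph.exists_of_graph_rat (X := Orb y) (fun x z => E x.1 z.1) (fun g x z => hE g x.1 z.1) (e i₀) K
    (fun g hg => Subtype.ext (hK g hg)) (fun x => cls (e.symm x)) (fun i => e (r i)) ?_ ?_ B ?_ kk ?_ c ?_ a t L d M
    hcard ha hBa hL hd
  · intro g hg x
    refine hcls g hg _ _ ?_
    rw [hes, hes, hsm]
  · intro x
    obtain ⟨g, hg, h⟩ := htr (e.symm x)
    refine ⟨g, hg, Subtype.ext ?_⟩
    rw [hsm, he, h, hes]
  · intro i j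
    rw [← hB i j]
    refine Finset.card_bij (fun x _ => e.symm x) ?_ ?_ ?_
    · intro x hx
      rw [Finset.mem_filter] at hx ⊢
      refine ⟨Finset.mem_univ _, ?_, hx.2.2⟩
      rw [hes]
      exact hx.2.1
    · intro x _ z _ h
      exact e.symm.injective h
    · intro k hk
      rw [Finset.mem_filter] at hk
      refine ⟨e k, ?_, e.symm_apply_apply k⟩
      rw [Finset.mem_filter]
      refine ⟨Finset.mem_univ _, hk.2.1, ?_⟩
      rw [e.symm_apply_apply]
      exact hk.2.2
  · intro j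
    rw [← hk j]
    refine Finset.card_bij (fun x _ => e.symm x) ?_ ?_ ?_
    · intro x hx
      rw [Finset.mem_filter] at hx ⊢
      exact ⟨Finset.mem_univ _, hx.2⟩
    · intro x _ z _ h
      exact e.symm.injective h
    · intro k hk
      rw [Finset.mem_filter] at hk
      refine ⟨e k, ?_, e.symm_apply_apply k⟩
      rw [Finset.mem_filter]
      refine ⟨Finset.mem_univ _, ?_⟩
      rw [e.symm_apply_apply]
      exact hk.2
  · rw [e.symm_apply_apply]
    exact hc

end Cfsg.Agent.H678.DG.Idx
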