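import Cfsg.Agent.H678.DG.Idx

/-!
# Degrees from an orbital (helper678)

`deg_of_orbital` : the version of `Idx.deg_of_index` where the relation is the orbital of a class `c₁` invariant under
the stabiliser; the collapsed matrix is counted inside the class.
-/

set_option autoImplicit false

namespace Cfsg.Agent.H678.DG.Orbital

open Cfsg

universe u v

variable {G : Type u} [Group G] [Finite G] {Y : Type v} [MulAction G Y] {M n : ℕ}

/-- **Degrees from an orbital.** -/
theorem deg_of_orbital (y : Fin M → Y) (hinj : Function.Injective y) (i₀ : Fin M)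
    (hcl : ∀ g : G, ∀ i, ∃ j, g • y i = y j) (htrG : ∀ i, ∃ g : G, g • y i₀ = y i)
    (K : Subgroup G) (hK : ∀ g ∈ K, g • y i₀ = y i₀) (cls : Fin M → Fin n) (r : Fin n → Fin M)
    (hcls : ∀ g ∈ K, ∀ i j, g • y i = y j → cls j = cls i)
    (htr : ∀ i, ∃ g ∈ K, g • y (r (cls i)) = y i) (c₁ : Fin n)
    (hc₁ : ∀ g : G, g • y i₀ = y i₀ → ∀ k k', cls k = c₁ → g • y k = y k' → cls k' = c₁)
    (γ : Fin n → G) (hγ : ∀ i, γ i • y i₀ = y (r i)) (σ : Fin n → Fin M → Fin M)
    (hσ : ∀ i k, γ i • y k = y (σ i k)) (B : Fin n → Fin n → ℕ)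
    (hB : ∀ i j, (Finset.univ.filter fun k : Fin M => cls k = c₁ ∧ cls (σ i k) = j).card = B i j)
    (kk : Fin n → ℕ) (hk : ∀ j, (Finset.univ.filter fun i => cls i = j).card = kk j) (c : Fin n) (hc : cls i₀ = c)
    (a : Fin n → ℚ) (t : ℚ) (L : Fin n → Fin n → ℚ) (d : ℕ)
    (ha : a c = 1) (hBa : ∀ i, ∑ j, (B i j : ℚ) * a j = t * a i)
    (hL : ∀ i j, ∑ l, L i l * ((B l j : ℚ) - if l = j then t else 0) =
      (if i = j then 1 else 0) - if j = c then a i else 0)
    (hd : (d : ℚ) * ∑ j, (kk j : ℚ) * (a j * a j) = M) :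
    ∃ χ : IrrCharacter G, charDegree (χ : G → ℂ) = d := by
  classical
  refine Idx.deg_of_index y hinj i₀ hcl htrG K hK cls r hcls htr
    (fun x z => decide (∃ (g : G) (k : Fin M), g • y i₀ = x ∧ cls k = c₁ ∧ g • y k = z)) ?_ B ?_ kk hk c hc a t L d ha
    hBa hL hd
  · intro g x z
    rw [decide_eq_decide]
    constructor
    · rintro ⟨h, k, h1, h2, h3⟩
      exact ⟨g⁻¹ * h, k, by rw [mul_smul, h1, inv_smul_smul], h2, by rw [mul_smul, h3, inv_smul_smul]⟩
    · rintro ⟨h, k, h1, h2, h3⟩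
      exact ⟨g * h, k, by rw [mul_smul, h1], h2, by rw [mul_smul, h3]⟩
  · intro i j
    rw [← hB i j]
    symm
    have hσi : Function.Injective (σ i) := by
      intro k k' h
      apply hinj
      have h1 : γ i • y k = γ i • y k' := by rw [hσ, hσ, h]
      exact smul_left_cancel _ h1
    refine Finset.card_bij (fun k _ => σ i k) ?_ (fun k _ k' _ h => hσi h) ?_
    · intro k hk
      rw [Finset.mem_filter] at hk ⊢
      refine ⟨Finset.mem_univ _, ?_, hk.2.2⟩
      rw [decide_eq_true_eq]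
      exact ⟨γ i, k, hγ i, hk.2.1, hσ i k⟩
    · intro k' hk'
      rw [Finset.mem_filter, decide_eq_true_eq] at hk'
      obtain ⟨-, ⟨g, k, h1, h2, h3⟩, h4⟩ := hk'
      obtain ⟨k'', hk''⟩ := hcl ((γ i)⁻¹ * g) k
      have h5 : ((γ i)⁻¹ * g) • y i₀ = y i₀ := by
        rw [mul_smul, h1, ← hγ i, inv_smul_smul]
      have h6 := hc₁ _ h5 k k'' h2 hk''
      have h7 : σ i k'' = k' := by
        apply hinj
        rw [← hσ, ← hk'', mul_smul, smul_inv_smul, h3]
      refine ⟨k'', ?_, h7⟩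
      rw [Finset.mem_filter]
      refine ⟨Finset.mem_univ _, h6, ?_⟩
      rw [h7]
      exact h4

omit [Finite G] in
/-- A class whose size cannot be enlarged is invariant under the stabiliser: the orbits of the stabiliser of `y i₀` are
unions of classes and their sizes divide the order `s` of the stabiliser. -/
theorem class_invariant (y : Fin M → Y) (hinj : Function.Injective y) (i₀ : Fin M)
    (hcl : ∀ g : G, ∀ i, ∃ j, g • y i = y j)
    (K : Subgroup G) (hK : ∀ g ∈ K, g • y i₀ = y i₀) (cls : Fin M → Fin n) (r : Fin n → Fin M)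
    (htr : ∀ i, ∃ g ∈ K, g • y (r (cls i)) = y i) (c₁ : Fin n) (s : ℕ)
    (hs : Nat.card (MulAction.stabilizer G (y i₀)) = s) (kk : Fin n → ℕ)
    (hk : ∀ j, (Finset.univ.filter fun i => cls i = j).card = kk j)
    (hdiv : ∀ J : Finset (Fin n), c₁ ∈ J → (∑ j ∈ J, kk j) ∣ s → J = {c₁}) :
    ∀ g : G, g • y i₀ = y i₀ → ∀ k k', cls k = c₁ → g • y k = y k' → cls k' = c₁ := by
  classical
  intro g hg k k' hk1 hgk
  set S := MulAction.stabilizer G (y i₀) with hS
  let O : Finset (Fin M) := Finset.univ.filter fun i => ∃ h ∈ S, h • y k = y i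
  let J : Finset (Fin n) := O.image cls
  have hmem : ∀ i, i ∈ O ↔ ∃ h ∈ S, h • y k = y i := fun i => by
    show i ∈ Finset.univ.filter _ ↔ _
    rw [Finset.mem_filter]
    exact ⟨fun h => h.2, fun h => ⟨Finset.mem_univ _, h⟩⟩
  -- the orbit is a union of classes
  have hunion : ∀ i j, i ∈ O → cls i = cls j → j ∈ O := by
    intro i j hi hij
    rw [hmem] at hi ⊢
    obtain ⟨h, hh, h1⟩ := hi
    obtain ⟨g1, hg1, h2⟩ := htr i
    obtain ⟨g2, hg2, h3⟩ := htr j
    refine ⟨g2 * g1⁻¹ * h, ?_, ?_⟩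
    · exact S.mul_mem (S.mul_mem (MulAction.mem_stabilizer_iff.2 (hK g2 hg2))
        (S.inv_mem (MulAction.mem_stabilizer_iff.2 (hK g1 hg1)))) hh
    · rw [mul_smul, h1, mul_smul, ← h2, inv_smul_smul, hij, h3]
  have hO : O = J.biUnion fun j => Finset.univ.filter fun i => cls i = j := by
    ext i
    rw [Finset.mem_biUnion]
    constructor
    · intro hi
      exact ⟨cls i, Finset.mem_image_of_mem _ hi, by simp⟩
    · rintro ⟨j, hj, hi⟩
      obtain ⟨i', hi', rfl⟩ := Finset.mem_image.1 hj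
      exact hunion i' i hi' (Finset.mem_filter.1 hi).2.symm
  have hcard : O.card = ∑ j ∈ J, kk j := by
    rw [hO, Finset.card_biUnion]
    · exact Finset.sum_congr rfl fun j _ => hk j
    · intro j _ j' _ hjj
      show Disjoint (Finset.univ.filter fun i => cls i = j) (Finset.univ.filter fun i => cls i = j')
      rw [Finset.disjoint_left]
      intro i h1 h2
      exact hjj ((Finset.mem_filter.1 h1).2.symm.trans (Finset.mem_filter.1 h2).2)
  have horb : O.card ∣ s := by
    have h1 : O.card = (MulAction.orbit S (y k)).ncard := by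
      have e : MulAction.orbit S (y k) = ((O.image y : Finset Y) : Set Y) := by
        ext z
        rw [Finset.mem_coe, Finset.mem_image]
        constructor
        · rintro ⟨h, rfl⟩
          obtain ⟨i, hi⟩ := hcl (h : G) k
          exact ⟨i, (hmem i).2 ⟨h, h.2, hi⟩, hi.symm⟩
        · rintro ⟨i, hi, rfl⟩
          obtain ⟨h, hh, h2⟩ := (hmem i).1 hi
          exact ⟨⟨h, hh⟩, h2⟩
      rw [e, Set.ncard_coe_finset, Finset.card_image_of_injective _ hinj]
    rw [h1, ← hs, ← Nat.card_coe_set_eq, Nat.card_congr (MulAction.orbitEquivQuotientStabilizer S (y k)),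
      ← Subgroup.index_eq_card]
    exact Subgroup.index_dvd_card _
  have hc : c₁ ∈ J := Finset.mem_image.2 ⟨k, (hmem k).2 ⟨1, S.one_mem, one_smul _ _⟩, hk1⟩
  have hJ := hdiv J hc (hcard ▸ horb)
  have h2 : cls k' ∈ J := Finset.mem_image_of_mem _ ((hmem k').2 ⟨g, MulAction.mem_stabilizer_iff.2 hg, hgk⟩)
  rw [hJ, Finset.mem_singleton] at h2
  exact h2

end Cfsg.Agent.H678.DG.Orbital
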